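import Groth.Agent.BlowSep.Basic
import Groth.Agent.BlowSep.Wide
import Groth.Agent.BlowUpLib.Glue
import Groth.Agent.ModPairLib.Dense
import Groth.Agent.BlowUpX.Basic
import Groth.Agent.SpecLib.Limit

/-!
# The directed system of admissible blow-ups and compatible systems of points
-/

universe u

set_option autoImplicit false
set_option linter.style.haveILetI false

open CategoryTheory CategoryTheory.Limits AlgebraicGeometry TopologicalSpace
open Scheme (IdealSheafData)

namespace Groth.Agent.ZRLim

/-- Morphisms to a separated scheme agreeing on a scheme-theoretically dense subscheme agree. -/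
theorem hom_ext_dense {A B Z W : Scheme.{u}} (w : A ⟶ B) [IsSchemeTheoreticallyDominant w]
    (f : Z ⟶ W) [IsSeparated f] {a b : B ⟶ Z} (h₁ : a ≫ f = b ≫ f) (h₂ : w ≫ a = w ≫ b) : a = b := by
  let l := pullback.lift (f := f) (g := f) a b h₁
  have hle : (pullback.diagonal f).ker ≤ l.ker := by
    refine le_trans (?_ : _ ≤ (w ≫ l).ker) (le_of_eq ?_)
    · have : w ≫ l = (w ≫ a) ≫ pullback.diagonal f := by
        apply pullback.hom_ext <;> simp [l, h₂, pullback.lift_fst, pullback.lift_snd]
      rw [this]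
      exact Scheme.Hom.le_ker_comp _ _
    · rw [Scheme.Hom.ker_comp, w.ker_eq_bot, IdealSheafData.map_bot]
  let d := IsClosedImmersion.lift (pullback.diagonal f) l hle
  have hd : d ≫ pullback.diagonal f = l := IsClosedImmersion.lift_fac _ _ _
  have e1 := congrArg (· ≫ pullback.fst f f) hd
  have e2 := congrArg (· ≫ pullback.snd f f) hd
  simp only [Category.assoc, pullback.diagonal_fst, pullback.diagonal_snd, Category.comp_id, l,
    pullback.lift_fst, pullback.lift_snd] at e1 e2
  exact e1.symm.trans e2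

variable {S : Scheme.{u}} {U : S.Opens}

variable (U) in
/-- Ideals of finite type whose zero locus is exactly the complement of `U`. -/
def Adm : Type u :=
  {K : S.IdealSheafData // BlowUp.IsFiniteTypeIdeal K ∧ (K.support : Set S) = (U : Set S)ᶜ}

namespace Adm

variable (K : Adm U)

/-- The blow-up. -/
noncomputable def obj : Scheme.{u} := (BlowUpLib.exists_blowUp (C := K.1)).choose

/-- Its structure map. -/
noncomputable def π : K.obj ⟶ S := (BlowUpLib.exists_blowUp (C := K.1)).choose_spec.choose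

theorem isBlowUp : BlowUp.IsBlowUp K.π K.1 :=
  (BlowUpLib.exists_blowUp (C := K.1)).choose_spec.choose_spec

theorem isAdmissible : BlowUp.IsAdmissibleFor U K.1 := by
  refine ⟨K.2.1, ?_⟩
  rw [K.2.2]
  exact disjoint_compl_left

instance isProper : IsProper K.π := BlowUpLib.isProper_of_isBlowUp _ K.isBlowUp K.2.1

instance compactSpace [CompactSpace S] : CompactSpace K.obj := QuasiCompact.compactSpace_of_compactSpace K.π

instance quasiSeparatedSpace [QuasiSeparatedSpace S] : QuasiSeparatedSpace K.obj :=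
  quasiSeparatedSpace_of_quasiSeparated K.π

theorem preimage_eq (P : Adm U) (E : P.obj.IdealSheafData) (hE : E = P.1.comap P.π) :
    P.π ⁻¹ᵁ U = ModPair.interior E := by
  refine TopologicalSpace.Opens.ext (Set.ext fun z => ?_)
  subst hE
  show P.π z ∈ (U : Set S) ↔ z ∉ ((P.1.comap P.π).support : Set P.obj)
  rw [IdealSheafData.support_comap]
  show _ ↔ P.π z ∉ (P.1.support : Set S)
  rw [P.2.2, Set.notMem_compl_iff]

instance isAffineHom_ι : IsAffineHom (K.π ⁻¹ᵁ U).ι := by
  rw [K.preimage_eq _ rfl]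
  exact ModPairLib.isAffineHom_interior (ModPairLib.isLocPrincipal_of_isEffCartier K.isBlowUp.1)

instance dense : IsSchemeTheoreticallyDominant (K.π ⁻¹ᵁ U).ι := by
  rw [K.preimage_eq _ rfl]
  exact ModPairLib.isSchemeTheoreticallyDominant_interior K.isBlowUp.1

instance isIso_restrict : IsIso (K.π ∣_ U) :=
  BlowUpLib.isIso_restrict K.isBlowUp U fun z hz => by
    show z ∉ (K.1.support : Set S)
    rw [K.2.2]
    exact fun h => h hz

/-- The product. -/
noncomputable def mul (K L : Adm U) : Adm U :=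
  ⟨K.1 * L.1, fun V => by
    rw [IdealSheafData.ideal_mul, Pi.mul_apply]; exact (K.2.1 V).mul (L.2.1 V), by
    rw [IdealSheafData.support_mul]
    show (K.1.support : Set S) ∪ (L.1.support : Set S) = _
    rw [K.2.2, L.2.2, Set.union_self]⟩

/-- `P` dominates `K`. -/
def Dom (K P : Adm U) : Prop := BlowUp.IsEffCartierIdeal (K.1.comap P.π)

theorem dom_of_mul {K : Adm U} {L : S.IdealSheafData} (P : Adm U) (h : P.1 = K.1 * L) : Dom K P := by
  refine BlowUpX.isEffCartier_left_of_mul (J := L.comap P.π) ?_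
  rw [← ModPairLib.ideal_comap_mul, ← h]
  exact P.isBlowUp.1

/-- The comparison map. -/
noncomputable def tr {K P : Adm U} (h : Dom K P) : P.obj ⟶ K.obj :=
  (K.isBlowUp.2 P.obj P.π h).choose

@[reassoc (attr := simp)]
theorem tr_π {K P : Adm U} (h : Dom K P) : tr h ≫ K.π = P.π :=
  (K.isBlowUp.2 P.obj P.π h).choose_spec.1

theorem π_tr_apply {K P : Adm U} (h : Dom K P) (x : P.obj) : K.π (tr h x) = P.π x := by
  rw [← Scheme.Hom.comp_apply, tr_π]

theorem tr_unique {K P : Adm U} (h : Dom K P) {g : P.obj ⟶ K.obj} (hg : g ≫ K.π = P.π) : g = tr h :=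
  (K.isBlowUp.2 P.obj P.π h).choose_spec.2 g hg

theorem dom_trans {K P Q : Adm U} (h : Dom K P) (h' : Dom P Q) : Dom K Q := by
  have hint : ModPair.interior (K.1.comap P.π) = P.π ⁻¹ᵁ U := by
    refine TopologicalSpace.Opens.ext (Set.ext fun z => ?_)
    show z ∉ ((K.1.comap P.π).support : Set P.obj) ↔ P.π z ∈ (U : Set S)
    rw [IdealSheafData.support_comap]
    show P.π z ∉ (K.1.support : Set S) ↔ _
    rw [K.2.2, Set.notMem_compl_iff]
  haveI : IsSchemeTheoreticallyDominant (tr h' ⁻¹ᵁ ModPair.interior (K.1.comap P.π)).ι := by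
    rw [hint, ← Scheme.Hom.comp_preimage, tr_π]
    exact Q.dense
  have := (ModPairLib.comap_preimage_dense _ h (tr h')).2
  rwa [← IdealSheafData.comap_comp, tr_π] at this

noncomputable instance : Preorder (Adm U) where
  le := Dom
  le_refl K := K.isBlowUp.1
  le_trans _ _ _ := dom_trans

theorem le_mul_left (K L : Adm U) : K ≤ K.mul L := dom_of_mul _ rfl

theorem le_mul_right (K L : Adm U) : L ≤ K.mul L := dom_of_mul _ (mul_comm K.1 L.1)

instance : IsDirectedOrder (Adm U) := ⟨fun K L => ⟨K.mul L, le_mul_left K L, le_mul_right K L⟩⟩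

theorem tr_self (K : Adm U) : tr (le_refl K) = 𝟙 K.obj :=
  (tr_unique _ (Category.id_comp _)).symm

theorem tr_trans {K P Q : Adm U} (h : K ≤ P) (h' : P ≤ Q) : tr h' ≫ tr h = tr (h.trans h') :=
  tr_unique _ (by rw [Category.assoc, tr_π, tr_π])

theorem tr_preimage {K P : Adm U} (h : K ≤ P) : tr h ⁻¹ᵁ (K.π ⁻¹ᵁ U) = P.π ⁻¹ᵁ U := by
  rw [← Scheme.Hom.comp_preimage, tr_π]

theorem nonempty [CompactSpace S] [QuasiSeparatedSpace S] (hU : IsCompact (U : Set S)) :
    Nonempty (Adm U) := by
  obtain ⟨I, hI, hs⟩ := BlowSep.exists_ft_support_eq (U : Set S)ᶜ U.2.isClosed_compl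
    (by rwa [compl_compl])
  exact ⟨⟨I, hI, hs⟩⟩

open SpecLib in
/-- A projective system of nonempty constructibly closed subsets has a compatible system of points. -/
theorem exists_compatible [CompactSpace S] [QuasiSeparatedSpace S] [Nonempty (Adm U)]
    (Bad : ∀ K : Adm U, Set K.obj)
    (hcc : ∀ K, CC (Bad K)) (hne : ∀ K, (Bad K).Nonempty)
    (hmono : ∀ {K P : Adm U} (h : K ≤ P) (x : P.obj), x ∈ Bad P → tr h x ∈ Bad K) :
    ∃ x : ∀ K : Adm U, K.obj, (∀ {K P : Adm U} (h : K ≤ P), tr h (x P) = x K) ∧ ∀ K, x K ∈ Bad K := by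
  classical
  let W := fun K : Adm U => WithConstructibleTopology K.obj
  let C : (Σ' (K P : Adm U), K ≤ P) ⊕ Adm U → Set (∀ K, W K) := fun i => match i with
    | .inl k => {u | WithTopology.toTopology _ (tr k.2.2 (u k.2.1).ofTopology) = u k.1}
    | .inr K => (fun u => u K) ⁻¹' {w | w.ofTopology ∈ Bad K}
  have hcl : ∀ i, IsClosed (C i) := by
    rintro (⟨K, P, h⟩ | K)
    · haveI : IsProper (tr h) := by
        haveI : IsProper (tr h ≫ K.π) := by rw [tr_π]; infer_instance
        exact MorphismProperty.of_postcomp (W := @IsProper) (W' := @IsSeparated) (tr h) K.π inferInstance this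
      haveI := SpecLib.t2Space_W (X := K.obj)
      exact isClosed_eq ((continuous_mapW (Scheme.Hom.isSpectralMap (tr h))).comp (continuous_apply P))
        (continuous_apply K)
    · exact (isClosed_W (hcc K)).preimage (continuous_apply K)
  obtain ⟨u, -, hu⟩ : (Set.univ ∩ ⋂ i, C i).Nonempty := by
    refine isCompact_univ.inter_iInter_nonempty C hcl fun t => ?_
    obtain ⟨P, hP⟩ := Finset.exists_le ((t.image fun i => match i with
      | .inl k => k.2.1
      | .inr K => K))
    obtain ⟨y, hy⟩ := hne P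
    let u : ∀ K, W K := fun K => WithTopology.toTopology _
      (if h : K ≤ P then tr h y else (hne K).some)
    refine ⟨u, trivial, Set.mem_iInter₂.2 fun i hi => ?_⟩
    rcases i with ⟨K, K', h⟩ | K
    · have hK' : K' ≤ P := hP K' (Finset.mem_image.2 ⟨_, hi, rfl⟩)
      show WithTopology.toTopology _ (tr h (u K').ofTopology) = u K
      simp only [u, dif_pos hK', dif_pos (h.trans hK')]
      rw [← Scheme.Hom.comp_apply, tr_trans]
    · have hK : K ≤ P := hP K (Finset.mem_image.2 ⟨_, hi, rfl⟩)
      show (u K).ofTopology ∈ Bad K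
      simp only [u, dif_pos hK]
      exact hmono hK y hy
  exact ⟨fun K => (u K).ofTopology,
    fun {K P} h => congrArg WithTopology.ofTopology (Set.mem_iInter.1 hu (.inl ⟨K, P, h⟩)),
    fun K => Set.mem_iInter.1 hu (.inr K)⟩

end Adm

end Groth.Agent.ZRLim
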