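import Groth.Agent.ZRLim.Chart

/-!
# Extending a section of a proper morphism after an admissible blow-up
-/

universe u

set_option autoImplicit false
set_option linter.style.haveILetI false
set_option backward.isDefEq.respectTransparency false
set_option backward.isDefEq.respectTransparency.types false

open CategoryTheory CategoryTheory.Limits AlgebraicGeometry TopologicalSpace
open Scheme (IdealSheafData)

namespace Groth.Agent.ZRLim

theorem specMap_hom_ext {A B : Type u} [CommRing A] [CommRing B] {X : Scheme.{u}}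
    {j : Spec (CommRingCat.of A) ⟶ X} [Mono j] {φ ψ : A →+* B}
    (h : Spec.map (CommRingCat.ofHom φ) ≫ j = Spec.map (CommRingCat.ofHom ψ) ≫ j) : φ = ψ :=
  congrArg CommRingCat.Hom.hom (Spec.map_injective ((cancel_mono j).1 h))

theorem exists_hom_of_range_le {B : Type u} [CommRing B] {X : Scheme.{u}} {N : X.Opens}
    (hN : IsAffineOpen N) (g : Spec (CommRingCat.of B) ⟶ X) (h : ∀ p, g p ∈ N) :
    ∃ φ : Γ(X, N) →+* B, Spec.map (CommRingCat.ofHom φ) ≫ hN.fromSpec = g := by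
  haveI := hN.isOpenImmersion_fromSpec
  have hr : Set.range g ⊆ Set.range hN.fromSpec := by
    rintro _ ⟨p, rfl⟩
    rw [hN.range_fromSpec]
    exact h p
  obtain ⟨φ, hφ⟩ := Spec.map_surjective (IsOpenImmersion.lift hN.fromSpec g hr)
  exact ⟨φ.hom, by rw [CommRingCat.ofHom_hom, hφ, IsOpenImmersion.lift_fac]⟩

theorem mem_basicOpen_fromSpec {X : Scheme.{u}} {N : X.Opens} (hN : IsAffineOpen N) {B : Type u}
    [CommRing B] (φ : Γ(X, N) →+* B) (p : Spec (CommRingCat.of B)) (a : Γ(X, N)) :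
    hN.fromSpec (Spec.map (CommRingCat.ofHom φ) p) ∈ X.basicOpen a ↔ φ a ∉ p.asIdeal := by
  rw [← Scheme.Hom.mem_preimage, hN.fromSpec_preimage_basicOpen]
  rfl

theorem restrict_eq {X Y : Scheme.{u}} (f : X ⟶ Y) (V : Y.Opens) (x : ↥(f ⁻¹ᵁ V).toScheme)
    (y : ↥V.toScheme) (h : f x.1 = y.1) : (f ∣_ V) x = y := by
  refine Subtype.ext ?_
  rw [← h]
  exact congrArg (fun φ => φ x) (morphismRestrict_ι f V)

variable {S : Scheme.{u}} {U : S.Opens} (W : S.Opens) {Z : Scheme.{u}}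
  (f : Z ⟶ (W : Scheme.{u})) (s : (U : Scheme.{u}) ⟶ Z)

/-- The section extends to the open `N` of a blow-up. -/
structure Ext (K : Adm U) (N : K.obj.Opens) (h : (N : Scheme.{u}) ⟶ Z) : Prop where
  comp_eq : h ≫ f ≫ W.ι = N.ι ≫ K.π
  agree : ∀ ⦃A : Scheme.{u}⦄ (a : A ⟶ (N : Scheme.{u})) (v : A ⟶ (U : Scheme.{u})),
    a ≫ N.ι ≫ K.π = v ≫ U.ι → a ≫ h = v ≫ s

variable {W f s}

theorem Ext.le {K : Adm U} {N : K.obj.Opens} {h : (N : Scheme.{u}) ⟶ Z} (e : Ext W f s K N h) :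
    N ≤ K.π ⁻¹ᵁ W := fun w hw => by
  have := congrArg (fun φ => φ ⟨w, hw⟩) e.comp_eq
  show K.π w ∈ W
  rw [show K.π w = (N.ι ≫ K.π) ⟨w, hw⟩ from rfl, ← e.comp_eq]
  exact ((h ≫ f) ⟨w, hw⟩).2

theorem Ext.pullback {K P : Adm U} (hKP : K ≤ P) {N : K.obj.Opens} {h : (N : Scheme.{u}) ⟶ Z}
    (e : Ext W f s K N h) (M : P.obj.Opens) (hM : M ≤ Adm.tr hKP ⁻¹ᵁ N) :
    Ext W f s P M ((Adm.tr hKP).resLE N M hM ≫ h) := by
  refine ⟨?_, fun A a v hav => ?_⟩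
  · rw [Category.assoc, e.comp_eq, Scheme.Hom.resLE_comp_ι_assoc, Adm.tr_π]
  · rw [← Category.assoc]
    refine e.agree _ v ?_
    rw [Category.assoc, Scheme.Hom.resLE_comp_ι_assoc, Adm.tr_π]
    exact hav

/-- On the preimage of `U` the section itself is an extension. -/
theorem ext_preimage {hUW : U ≤ W} (hs : s ≫ f = S.homOfLE hUW) (K : Adm U) :
    Ext W f s K (K.π ⁻¹ᵁ U) ((K.π ∣_ U) ≫ s) := by
  refine ⟨?_, fun A a v hav => ?_⟩
  · rw [Category.assoc, reassoc_of% hs, Scheme.homOfLE_ι, morphismRestrict_ι]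
  · rw [← Category.assoc]
    congr 1
    rw [← cancel_mono U.ι, Category.assoc, morphismRestrict_ι]
    exact hav

variable [Nonempty (Adm U)] (z : Pt U)

theorem exists_gen_le {K : Adm U} {O : K.obj.Opens} (hO : z.x K ∈ O) :
    ∃ g : z.Gen, g.K = K ∧ ∀ w ∈ g.N.1, g.K.π w ∈ Set.image K.π (O : Set K.obj) := by
  obtain ⟨V, hV, T, hT, hI⟩ := K.isBlowUp.1 (z.x K)
  obtain ⟨r, hr, hxr⟩ := V.2.exists_basicOpen_le ⟨z.x K, hO⟩ hV
  let D : K.obj.affineOpens := ⟨K.obj.basicOpen r, V.2.basicOpen r⟩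
  have hI' : (K.1.comap K.π).ideal D =
      Ideal.span {(K.obj.presheaf.map (homOfLE (K.obj.basicOpen_le r : D.1 ≤ V.1)).op) T} := by
    rw [← (K.1.comap K.π).map_ideal (U := D) (V := V) (K.obj.basicOpen_le r), hI, Ideal.map_span,
      Set.image_singleton]
    rfl
  exact ⟨⟨K, D, hxr, _, ModPairLib.generator_mem_nonZeroDivisors K.isBlowUp.1 hI', hI'⟩, rfl,
    fun w hw => ⟨w, hr hw, rfl⟩⟩

open Pt

/-- `R[1/t]`. -/
noncomputable abbrev Pt.Gen.R' {z : Pt U} (g : z.Gen) : Type u := Localization.Away g.t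

/-- The point over `U` of the limit, as a morphism to the base. -/
noncomputable def ι₀ {z : Pt U} (g : z.Gen) : Spec (CommRingCat.of g.R') ⟶ S :=
  Spec.map (CommRingCat.ofHom ((algebraMap z.Ring g.R').comp (z.sec g.K g.N.1 g.hN))) ≫ g.N.2.fromSpec ≫ g.K.π

theorem ι₀_mem {z : Pt U} (g : z.Gen) (p) : ι₀ g p ∈ U := by
  show g.K.π (g.N.2.fromSpec (Spec.map (CommRingCat.ofHom ((algebraMap z.Ring g.R').comp (z.sec g.K g.N.1 g.hN))) p)) ∈ U
  generalize hq0 : g.N.2.fromSpec (Spec.map (CommRingCat.ofHom ((algebraMap z.Ring g.R').comp (z.sec g.K g.N.1 g.hN))) p) = q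
  have hd : g.N.1 ⊓ g.K.π ⁻¹ᵁ U = g.K.obj.basicOpen g.T := by
    rw [← ModPairLib.interior_inter_eq_basicOpen g.ideal_eq, g.K.preimage_eq _ rfl]
  have hq : q ∈ g.K.obj.basicOpen g.T := by
    rw [← hq0]
    refine (mem_basicOpen_fromSpec g.N.2 _ p _).2 fun hm => ?_
    exact p.2.ne_top (Ideal.eq_top_of_isUnit_mem _ hm (IsLocalization.Away.algebraMap_isUnit g.t))
  exact (hd.ge hq).2

/-- The point over `U` of the limit. -/
noncomputable def u₀ {z : Pt U} (g : z.Gen) : Spec (CommRingCat.of g.R') ⟶ (U : Scheme.{u}) :=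
  IsOpenImmersion.lift U.ι (ι₀ g) (by
    rintro _ ⟨p, rfl⟩
    rw [Scheme.Opens.range_ι]
    exact ι₀_mem g p)

@[reassoc]
theorem u₀_ι {z : Pt U} (g : z.Gen) : u₀ g ≫ U.ι = ι₀ g := IsOpenImmersion.lift_fac _ _ _

theorem not_isUnit_t {z : Pt U} (g : z.Gen) (hU : g.K.π (z.x g.K) ∉ U) : ¬ IsUnit g.t := fun h => by
  refine hU ?_
  have h' : IsUnit (g.K.obj.presheaf.germ g.N.1 (z.x g.K) g.hN g.T) := z.isUnit_of_iff.1 h
  have hd : g.N.1 ⊓ g.K.π ⁻¹ᵁ U = g.K.obj.basicOpen g.T := by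
    rw [← ModPairLib.interior_inter_eq_basicOpen g.ideal_eq, g.K.preimage_eq _ rfl]
  have : z.x g.K ∈ g.K.obj.basicOpen g.T := (Scheme.mem_basicOpen g.K.obj _ _ g.hN).2 h'
  rw [← hd] at this
  exact this.2

/-- The valuative criterion gives an affine open of `Z` through which the point over `U` factors,
with functions taking integral values. -/
theorem exists_center [CompactSpace S] [QuasiSeparatedSpace S] [IsProper f] {hUW : U ≤ W}
    (hs : s ≫ f = S.homOfLE hUW) (g : z.Gen) (hU : g.K.π (z.x g.K) ∉ U) (Wa : S.affineOpens)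
    (hWaW : Wa.1 ≤ W) (hgW : g.N.1 ≤ g.K.π ⁻¹ᵁ Wa.1) :
    ∃ (Zj : Z.affineOpens) (_ : Zj.1 ≤ (f ≫ W.ι) ⁻¹ᵁ Wa.1) (φ : Γ(Z, Zj.1) →+* g.R'),
      Spec.map (CommRingCat.ofHom φ) ≫ Zj.2.fromSpec = u₀ g ≫ s ∧
      ∀ x, φ x ∈ Set.range (algebraMap z.Ring g.R') := by
  have htu := not_isUnit_t g hU
  obtain ⟨hR', V, _, _, _, mk, ρ, hmk, hρ, hρl, hρV⟩ :=
    exists_valuation g.t_mem_nonZeroDivisors htu g.isAdmPrincipal
  haveI := hR'
  haveI := hρl
  let R' := g.R'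
  let β : Γ(S, Wa.1) →+* z.Ring := (z.sec g.K g.N.1 g.hN).comp (g.K.π.appLE Wa.1 g.N.1 hgW).hom
  have hι₀β : ι₀ g = Spec.map (CommRingCat.ofHom ((algebraMap z.Ring R').comp β)) ≫ Wa.2.fromSpec := by
    have e := IsAffineOpen.SpecMap_appLE_fromSpec g.K.π Wa.2 g.N.2 hgW
    refine (congrArg (Spec.map (CommRingCat.ofHom ((algebraMap z.Ring R').comp (z.sec g.K g.N.1 g.hN))) ≫ ·) e.symm).trans ?_
    show Spec.map (CommRingCat.ofHom ((algebraMap z.Ring R').comp (z.sec g.K g.N.1 g.hN))) ≫ Spec.map _ ≫ _ = _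
    rw [← Category.assoc, ← Spec.map_comp]
    rfl
  let h' : Spec (CommRingCat.of R') ⟶ Z := u₀ g ≫ s
  have hh' : h' ≫ f ≫ W.ι = ι₀ g := by
    simp only [h', Category.assoc, reassoc_of% hs, Scheme.homOfLE_ι, u₀_ι]
  haveI := Wa.2.isOpenImmersion_fromSpec
  have hrW : Set.range Wa.2.fromSpec ⊆ Set.range W.ι := by
    rw [Wa.2.range_fromSpec, Scheme.Opens.range_ι]
    exact hWaW
  let ωW := IsOpenImmersion.lift W.ι Wa.2.fromSpec hrW
  have hωW : ωW ≫ W.ι = Wa.2.fromSpec := IsOpenImmersion.lift_fac _ _ _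
  let sq : ValuativeCommSq f :=
    { R := V
      K := FractionRing V
      i₁ := Spec.map (CommRingCat.ofHom ρ) ≫ h'
      i₂ := Spec.map (CommRingCat.ofHom (mk.comp β)) ≫ ωW
      commSq := ⟨by
        rw [← cancel_mono W.ι]
        simp only [Category.assoc, hh', hωW, hι₀β, ← Spec.map_comp_assoc, ← CommRingCat.ofHom_comp]
        congr 3
        ext x
        exact hρ (β x)⟩ }
  have hex : ValuativeCriterion.Existence f :=
    ((UniversallyClosed.eq_valuativeCriterion ▸ (inferInstance : UniversallyClosed f) :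
      (ValuativeCriterion.Existence ⊓ @QuasiCompact) f)).1
  haveI := hex sq
  let l : Spec (CommRingCat.of V) ⟶ Z := sq.commSq.lift
  have hl₁ : Spec.map (CommRingCat.ofHom (algebraMap V (FractionRing V))) ≫ l =
      Spec.map (CommRingCat.ofHom ρ) ≫ h' := sq.commSq.fac_left
  have hl₂ : l ≫ f = Spec.map (CommRingCat.ofHom (mk.comp β)) ≫ ωW := sq.commSq.fac_right
  let cp : ↥(Spec (CommRingCat.of V)) := IsLocalRing.closedPoint V
  let cK : ↥(Spec (CommRingCat.of (FractionRing V))) := IsLocalRing.closedPoint (FractionRing V)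
  let cR : ↥(Spec (CommRingCat.of R')) := IsLocalRing.closedPoint R'
  let z₀ := l cp
  have hz₀ : W.ι (f z₀) ∈ Wa.1 := by
    have := congrArg (fun φ => (φ ≫ W.ι) cp) hl₂
    simp only [Category.assoc, hωW, Scheme.Hom.comp_apply] at this
    show W.ι (f (l cp)) ∈ Wa.1
    rw [this, ← SetLike.mem_coe, ← Wa.2.range_fromSpec]
    exact Set.mem_range_self _
  obtain ⟨Zj, hZj, hz₀j⟩ := exists_affine_le (O := (f ≫ W.ι) ⁻¹ᵁ Wa.1) (y := z₀) hz₀
  let α := ((f ≫ W.ι).appLE Wa.1 Zj.1 hZj).hom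
  obtain ⟨ψ, hψ⟩ := exists_hom_of_range_le Zj.2 l fun p =>
    ((IsLocalRing.specializes_closedPoint p).map l.continuous).mem_open Zj.1.2 hz₀j
  obtain ⟨φ, hφ⟩ := exists_hom_of_range_le Zj.2 h' fun p => by
    refine ((IsLocalRing.specializes_closedPoint p).map h'.continuous).mem_open Zj.1.2 ?_
    have e := congrArg (fun φ => φ cK) hl₁
    simp only [Scheme.Hom.comp_apply] at e
    have e2 : Spec.map (CommRingCat.ofHom ρ) cK = cR := IsLocalRing.comap_closedPoint ρ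
    rw [e2] at e
    show h' cR ∈ Zj.1
    rw [← e]
    exact ((IsLocalRing.specializes_closedPoint _).map l.continuous).mem_open Zj.1.2 hz₀j
  haveI := Zj.2.isOpenImmersion_fromSpec
  have hρφ : ρ.comp φ = (algebraMap V (FractionRing V)).comp ψ := by
    refine specMap_hom_ext (j := Zj.2.fromSpec) ?_
    rw [CommRingCat.ofHom_comp, CommRingCat.ofHom_comp, Spec.map_comp, Spec.map_comp, Category.assoc,
      Category.assoc, hφ, hψ, hl₁]
  have hφR : ∀ x, φ x ∈ Set.range (algebraMap z.Ring R') := fun x =>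
    hρV _ ⟨ψ x, (congrArg (· x) hρφ).symm⟩
  exact ⟨Zj, hZj, φ, hφ, hφR⟩

/-- Finer charts around the point map to `Zj` over `U`. -/
theorem exists_good (g : z.Gen) (Zj : Z.affineOpens) (φ : Γ(Z, Zj.1) →+* g.R')
    (hφ : Spec.map (CommRingCat.ofHom φ) ≫ Zj.2.fromSpec = u₀ g ≫ s) :
    ∃ (c : z.Chart) (_ : g.chart.Le c), ∀ (d : z.Chart) (hcd : c.Le d) (h0d : g.chart.Le d),
      ∀ w ∈ d.K.obj.basicOpen (g.T' h0d), ∀ hw : w ∈ d.K.π ⁻¹ᵁ U,
        s ((d.K.π ∣_ U) ⟨w, hw⟩) ∈ Zj.1 := by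
  let σ : ∀ c : z.Chart, ((c.K.π ⁻¹ᵁ U : c.K.obj.Opens) : Scheme.{u}) ⟶ Z := fun c => (c.K.π ∣_ U) ≫ s
  let good : ∀ c : z.Chart, c.K.obj.Opens := fun c => (c.K.π ⁻¹ᵁ U).ι ''ᵁ (σ c ⁻¹ᵁ Zj.1)
  let c₀ := g.chart
  let 𝔠 : Ideal c₀.A := Ideal.span {a | c₀.K.obj.basicOpen a ≤ good c₀}
  have ht𝔠 : g.t ∈ (𝔠.map c₀.sec).radical := by
    rw [Ideal.radical_eq_sInf, Ideal.mem_sInf]
    rintro J ⟨hJ, hJp⟩
    by_contra htJ
    have hJd : Disjoint (Submonoid.powers g.t : Set z.Ring) J := by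
      rw [Set.disjoint_left]
      rintro _ ⟨n, rfl⟩ hm
      exact htJ (hJp.mem_of_pow_mem n hm)
    let p : Spec (CommRingCat.of g.R') :=
      ⟨J.map (algebraMap z.Ring g.R'), IsLocalization.isPrime_of_isPrime_disjoint (Submonoid.powers g.t) g.R' J hJp hJd⟩
    let q := c₀.N.2.fromSpec (Spec.map (CommRingCat.ofHom ((algebraMap z.Ring g.R').comp c₀.sec)) p)
    have hqU : q ∈ c₀.K.π ⁻¹ᵁ U := ι₀_mem g p
    have hqgood : q ∈ good c₀ := by
      refine ⟨⟨q, hqU⟩, ?_, rfl⟩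
      show s ((c₀.K.π ∣_ U) ⟨q, hqU⟩) ∈ Zj.1
      have : (c₀.K.π ∣_ U) ⟨q, hqU⟩ = u₀ g p := by
        refine restrict_eq _ _ ⟨q, hqU⟩ _ ?_
        exact (congrArg (fun φ => φ p) (u₀_ι g)).symm
      rw [this]
      show (u₀ g ≫ s) p ∈ Zj.1
      rw [← hφ, ← SetLike.mem_coe, ← Zj.2.range_fromSpec]
      exact Set.mem_range_self _
    have hqN : q ∈ c₀.N.1 := by
      rw [← SetLike.mem_coe, ← c₀.N.2.range_fromSpec]
      exact Set.mem_range_self _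
    obtain ⟨a, ha, hqa⟩ := c₀.N.2.exists_basicOpen_le ⟨q, hqgood⟩ hqN
    refine (mem_basicOpen_fromSpec c₀.N.2 _ p a).1 hqa ?_
    exact Ideal.mem_map_of_mem _ (hJ (Ideal.mem_map_of_mem _ (Ideal.subset_span ha)))
  obtain ⟨m, hm⟩ := ht𝔠
  obtain ⟨c₁, h01, a₁, ha₁, hsec₁⟩ := Chart.exists_rep_ideal c₀ 𝔠 hm
  obtain ⟨c, h1c, hTc⟩ : ∃ (c : z.Chart) (h : c₁.Le c),
      Chart.hom h a₁ = g.T' (Chart.le_trans h01 h) ^ m := by
    obtain ⟨c, h, e⟩ := Chart.sec_eq_iff (c := c₁) (a := a₁) (b := g.T' h01 ^ m)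
      (by rw [map_pow, g.sec_T', hsec₁])
    exact ⟨c, h, by rw [e, map_pow, g.T'_hom]⟩
  refine ⟨c, Chart.le_trans h01 h1c, fun d hcd h0d w hw hwU => ?_⟩
  have hwN : w ∈ d.N.1 := d.K.obj.basicOpen_le _ hw
  let w₀ := Adm.tr h0d.le w
  have hmem : g.T' h0d ^ m ∈ 𝔠.map (Chart.hom h0d) := by
    have : g.T' h0d ^ m = Chart.hom (Chart.le_trans h1c hcd) a₁ := by
      rw [← Chart.hom_hom h1c hcd, hTc, map_pow, g.T'_hom]
    rw [this]
    have h2 : (Chart.hom (Chart.le_trans h1c hcd)).comp (Chart.hom h01) = Chart.hom h0d :=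
      RingHom.ext fun x => Chart.hom_hom h01 (Chart.le_trans h1c hcd) x
    rw [← h2, ← Ideal.map_map]
    exact Ideal.mem_map_of_mem _ ha₁
  have hw₀ : w₀ ∈ good c₀ := by
    by_contra hne
    have hle : 𝔠.map (Chart.hom h0d) ≤ (d.N.2.primeIdealOf ⟨w, hwN⟩).asIdeal := by
      rw [Ideal.map_le_iff_le_comap, Ideal.span_le]
      intro a ha
      rw [SetLike.mem_coe, Ideal.mem_comap, BlowSep.prime_iff d.N.2 hwN]
      intro hwa
      refine hne (ha ?_)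
      rw [show Chart.hom h0d a = (Adm.tr h0d.le).appLE c₀.N.1 d.N.1 h0d.sub a from rfl,
        Scheme.basicOpen_appLE] at hwa
      exact hwa.2
    exact ((BlowSep.prime_iff d.N.2 hwN _).1
      ((d.N.2.primeIdealOf ⟨w, hwN⟩).2.mem_of_pow_mem m (hle hmem))) hw
  obtain ⟨v, hv, hvw⟩ := hw₀
  have e : (d.K.π ∣_ U) ⟨w, hwU⟩ = (c₀.K.π ∣_ U) v := by
    refine restrict_eq _ _ ⟨w, hwU⟩ _ ?_
    refine Eq.trans ?_ (congrArg (fun φ => φ v) (morphismRestrict_ι c₀.K.π U)).symm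
    exact ((congrArg c₀.K.π hvw).trans (Adm.π_tr_apply _ _)).symm
  show s ((d.K.π ∣_ U) ⟨w, hwU⟩) ∈ Zj.1
  rw [e]
  exact hv

/-- The induced map of rings on the part over `U`. -/
theorem exists_theta (g : z.Gen) (Zj : Z.affineOpens) (d : z.Chart) (h0d : g.chart.Le d)
    (hgood : ∀ w ∈ d.K.obj.basicOpen (g.T' h0d), ∀ hw : w ∈ d.K.π ⁻¹ᵁ U,
        s ((d.K.π ∣_ U) ⟨w, hw⟩) ∈ Zj.1) :
    ∃ (θ : Γ(Z, Zj.1) →+* Γ(d.K.obj, d.K.obj.basicOpen (g.T' h0d)))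
      (v : Spec Γ(d.K.obj, d.K.obj.basicOpen (g.T' h0d)) ⟶ (U : Scheme.{u})),
      v ≫ U.ι = (d.N.2.basicOpen _).fromSpec ≫ d.K.π ∧
      Spec.map (CommRingCat.ofHom θ) ≫ Zj.2.fromSpec = v ≫ s := by
  let D := d.K.obj.basicOpen (g.T' h0d)
  have hD : IsAffineOpen D := d.N.2.basicOpen _
  haveI := hD.isOpenImmersion_fromSpec
  have hDU : ∀ p, d.K.π (hD.fromSpec p) ∈ U := fun p => by
    have : hD.fromSpec p ∈ D := hD.range_fromSpec.le (Set.mem_range_self p)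
    exact ((g.basicOpen_T' h0d).ge this).2
  have hr : Set.range (hD.fromSpec ≫ d.K.π) ⊆ Set.range U.ι := by
    rintro _ ⟨p, rfl⟩
    rw [Scheme.Opens.range_ι]
    exact hDU p
  let v := IsOpenImmersion.lift U.ι (hD.fromSpec ≫ d.K.π) hr
  obtain ⟨θ, hθ⟩ := exists_hom_of_range_le Zj.2 (v ≫ s) fun p => by
    have hpD : hD.fromSpec p ∈ D := hD.range_fromSpec.le (Set.mem_range_self p)
    have h2 := hgood _ hpD (hDU p)
    have e : v p = (d.K.π ∣_ U) ⟨hD.fromSpec p, hDU p⟩ := by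
      refine (restrict_eq _ _ ⟨hD.fromSpec p, hDU p⟩ _ ?_).symm
      exact (congrArg (fun φ => φ p) (IsOpenImmersion.lift_fac U.ι _ hr)).symm
    show s (v p) ∈ Zj.1
    rw [e]
    exact h2
  exact ⟨θ, v, IsOpenImmersion.lift_fac _ _ _, hθ⟩

/-- Compatibility of the maps of rings with refinement. -/
theorem theta_natural (g : z.Gen) (Zj : Z.affineOpens) {d e : z.Chart} (hde : d.Le e)
    (h0d : g.chart.Le d) (h0e : g.chart.Le e)
    {θd : Γ(Z, Zj.1) →+* Γ(d.K.obj, d.K.obj.basicOpen (g.T' h0d))}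
    {vd : Spec Γ(d.K.obj, d.K.obj.basicOpen (g.T' h0d)) ⟶ (U : Scheme.{u})}
    (hvd : vd ≫ U.ι = (d.N.2.basicOpen _).fromSpec ≫ d.K.π)
    (hθd : Spec.map (CommRingCat.ofHom θd) ≫ Zj.2.fromSpec = vd ≫ s)
    {θe : Γ(Z, Zj.1) →+* Γ(e.K.obj, e.K.obj.basicOpen (g.T' h0e))}
    {ve : Spec Γ(e.K.obj, e.K.obj.basicOpen (g.T' h0e)) ⟶ (U : Scheme.{u})}
    (hve : ve ≫ U.ι = (e.N.2.basicOpen _).fromSpec ≫ e.K.π)
    (hθe : Spec.map (CommRingCat.ofHom θe) ≫ Zj.2.fromSpec = ve ≫ s)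
    (hDle : e.K.obj.basicOpen (g.T' h0e) ≤ Adm.tr hde.le ⁻¹ᵁ d.K.obj.basicOpen (g.T' h0d)) :
    ((Adm.tr hde.le).appLE _ _ hDle).hom.comp θd = θe := by
  haveI := Zj.2.isOpenImmersion_fromSpec
  refine specMap_hom_ext (j := Zj.2.fromSpec) ?_
  rw [CommRingCat.ofHom_comp, Spec.map_comp, Category.assoc, hθd, hθe, ← Category.assoc]
  congr 1
  rw [← cancel_mono U.ι, Category.assoc, hvd, hve, CommRingCat.ofHom_hom,
    ← Category.assoc, IsAffineOpen.SpecMap_appLE_fromSpec _ (d.N.2.basicOpen _) (e.N.2.basicOpen _),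
    Category.assoc, Adm.tr_π]

/-- The value of `θ` in the limit is `φ`. -/
theorem theta_sec (g : z.Gen) (Zj : Z.affineOpens) {φ : Γ(Z, Zj.1) →+* g.R'}
    (hφ : Spec.map (CommRingCat.ofHom φ) ≫ Zj.2.fromSpec = u₀ g ≫ s) {d : z.Chart} (h0d : g.chart.Le d)
    {θd : Γ(Z, Zj.1) →+* Γ(d.K.obj, d.K.obj.basicOpen (g.T' h0d))}
    {vd : Spec Γ(d.K.obj, d.K.obj.basicOpen (g.T' h0d)) ⟶ (U : Scheme.{u})}
    (hvd : vd ≫ U.ι = (d.N.2.basicOpen _).fromSpec ≫ d.K.π)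
    (hθd : Spec.map (CommRingCat.ofHom θd) ≫ Zj.2.fromSpec = vd ≫ s)
    (secT : Γ(d.K.obj, d.K.obj.basicOpen (g.T' h0d)) →+* g.R')
    (hsecT : ∀ a, secT ((d.K.obj.presheaf.map (homOfLE (d.K.obj.basicOpen_le _)).op).hom a) =
        algebraMap z.Ring g.R' (d.sec a)) :
    secT.comp θd = φ := by
  haveI := Zj.2.isOpenImmersion_fromSpec
  let T := g.T' h0d
  refine specMap_hom_ext (j := Zj.2.fromSpec) ?_
  rw [CommRingCat.ofHom_comp, Spec.map_comp, Category.assoc, hθd, hφ, ← Category.assoc]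
  congr 1
  rw [← cancel_mono U.ι, Category.assoc, hvd, u₀_ι, ι₀]
  have e1 : Spec.map (CommRingCat.ofHom secT) ≫ (d.N.2.basicOpen T).fromSpec =
      Spec.map (CommRingCat.ofHom ((algebraMap z.Ring g.R').comp d.sec)) ≫ d.N.2.fromSpec := by
    rw [← d.N.2.map_fromSpec (d.N.2.basicOpen T) (homOfLE (d.K.obj.basicOpen_le T)).op,
      ← Spec.map_comp_assoc]
    congr 2
    ext a
    exact hsecT a
  rw [reassoc_of% e1]
  have e2 : d.N.2.fromSpec ≫ Adm.tr h0d.le =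
      Spec.map ((Adm.tr h0d.le).appLE g.chart.N.1 d.N.1 h0d.sub) ≫ g.chart.N.2.fromSpec :=
    (IsAffineOpen.SpecMap_appLE_fromSpec _ _ _ h0d.sub).symm
  rw [← Adm.tr_π h0d.le, reassoc_of% e2, ← Spec.map_comp_assoc]
  congr 3
  ext a
  exact congrArg (algebraMap z.Ring g.R') (Chart.sec_hom h0d a)

/-- After refinement a value of `θ` with integral limit is a section on the whole chart. -/
theorem exists_mem_range (g : z.Gen) (Zj : Z.affineOpens) {φ : Γ(Z, Zj.1) →+* g.R'}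
    (hφ : Spec.map (CommRingCat.ofHom φ) ≫ Zj.2.fromSpec = u₀ g ≫ s) {c : z.Chart} (h0c : g.chart.Le c)
    (θ : ∀ (d : z.Chart) (hcd : c.Le d),
      Γ(Z, Zj.1) →+* Γ(d.K.obj, d.K.obj.basicOpen (g.T' (Chart.le_trans h0c hcd))))
    (v : ∀ (d : z.Chart) (hcd : c.Le d),
      Spec Γ(d.K.obj, d.K.obj.basicOpen (g.T' (Chart.le_trans h0c hcd))) ⟶ (U : Scheme.{u}))
    (hv : ∀ d hcd, v d hcd ≫ U.ι = (d.N.2.basicOpen _).fromSpec ≫ d.K.π)
    (hθ : ∀ d hcd, Spec.map (CommRingCat.ofHom (θ d hcd)) ≫ Zj.2.fromSpec = v d hcd ≫ s)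
    (x : Γ(Z, Zj.1)) (hx : φ x ∈ Set.range (algebraMap z.Ring g.R')) :
    ∃ (d : z.Chart) (hd : c.Le d), ∀ (e : z.Chart) (hde : d.Le e),
      ∃ a : e.A, (e.K.obj.presheaf.map (homOfLE (e.K.obj.basicOpen_le _)).op).hom a =
        θ e (Chart.le_trans hd hde) x := by
  obtain ⟨r, hr⟩ := hx
  obtain ⟨d, hcd, aG, haG⟩ := Chart.exists_rep c r
  let T := g.T' (Chart.le_trans h0c hcd)
  haveI := d.N.2.isLocalization_basicOpen T
  let secT : Γ(d.K.obj, d.K.obj.basicOpen T) →+* g.R' :=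
    IsLocalization.Away.lift T (g := (algebraMap z.Ring g.R').comp d.sec) (by
      rw [RingHom.comp_apply, g.sec_T']
      exact IsLocalization.Away.algebraMap_isUnit g.t)
  have hsecT : ∀ a, secT ((d.K.obj.presheaf.map (homOfLE (d.K.obj.basicOpen_le T)).op).hom a) =
      algebraMap z.Ring g.R' (d.sec a) := fun a =>
    IsLocalization.Away.lift_eq (S := Γ(d.K.obj, d.K.obj.basicOpen T)) T _ a
  have hθφ := theta_sec z g Zj hφ _ (hv d hcd) (hθ d hcd) secT hsecT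
  obtain ⟨n, u, hu⟩ := IsLocalization.Away.surj T (θ d hcd x -
    (d.K.obj.presheaf.map (homOfLE (d.K.obj.basicOpen_le T)).op).hom aG)
  have hinj : Function.Injective (algebraMap z.Ring g.R') :=
    IsLocalization.injective g.R' (M := Submonoid.powers g.t) (Submonoid.powers_le.mpr g.t_mem_nonZeroDivisors)
  have hu0 : d.sec u = 0 := by
    refine hinj ?_
    rw [map_zero, ← hsecT]
    have := congrArg secT hu
    rw [map_mul, map_sub, ← RingHom.comp_apply secT, hθφ, hsecT, haG, hr, sub_self, zero_mul] at this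
    exact this.symm
  obtain ⟨d', hdd', hd'⟩ := Chart.exists_hom_eq_zero hu0
  refine ⟨d', Chart.le_trans hcd hdd', fun e hde => ⟨Chart.hom (Chart.le_trans hdd' hde) aG, ?_⟩⟩
  have hde' := Chart.le_trans hdd' hde
  let T' := g.T' (Chart.le_trans h0c (Chart.le_trans (Chart.le_trans hcd hdd') hde))
  have hTT : Chart.hom hde' T = T' := g.T'_hom _ _
  have hDle : e.K.obj.basicOpen T' ≤ Adm.tr hde'.le ⁻¹ᵁ d.K.obj.basicOpen T := by
    rw [← hTT, show Chart.hom hde' T = (Adm.tr hde'.le).appLE d.N.1 e.N.1 hde'.sub T from rfl,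
      Scheme.basicOpen_appLE]
    exact inf_le_right
  let ρD := ((Adm.tr hde'.le).appLE (d.K.obj.basicOpen T) (e.K.obj.basicOpen T') hDle).hom
  have hcomm : ∀ a, ρD ((d.K.obj.presheaf.map (homOfLE (d.K.obj.basicOpen_le T)).op).hom a) =
      (e.K.obj.presheaf.map (homOfLE (e.K.obj.basicOpen_le T')).op).hom (Chart.hom hde' a) := by
    intro a
    simp only [ρD, Chart.hom, ← CommRingCat.comp_apply, Scheme.Hom.map_appLE, Scheme.Hom.appLE_map]
  have hnat : ρD.comp (θ d hcd) = θ e (Chart.le_trans (Chart.le_trans hcd hdd') hde) :=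
    theta_natural z g Zj hde' _ _ (hv d hcd) (hθ d hcd) (hv e _) (hθ e _) hDle
  rw [← hcomm, ← hnat, RingHom.comp_apply]
  have hz : Chart.hom hde' u = 0 := by
    rw [← Chart.hom_hom hdd' hde, hd', map_zero]
  have h2 := congrArg ρD hu
  erw [map_mul, map_pow, hcomm, hcomm, hz, map_zero, hTT] at h2
  have hunit : IsUnit ((e.K.obj.presheaf.map (homOfLE (e.K.obj.basicOpen_le T')).op).hom T') :=
    RingedSpace.isUnit_res_basicOpen _ T'
  rw [(hunit.pow n).mul_left_eq_zero, map_sub, sub_eq_zero] at h2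
  exact h2.symm

/-- Extension given an affine open of `Z` through which the point over `U` factors integrally. -/
theorem exists_ext_of_center [LocallyOfFiniteType f] {hUW : U ≤ W} (hs : s ≫ f = S.homOfLE hUW)
    (g : z.Gen) (Wa : S.affineOpens) (hgW : g.N.1 ≤ g.K.π ⁻¹ᵁ Wa.1) (Zj : Z.affineOpens)
    (hZj : Zj.1 ≤ (f ≫ W.ι) ⁻¹ᵁ Wa.1) (φ : Γ(Z, Zj.1) →+* g.R')
    (hφ : Spec.map (CommRingCat.ofHom φ) ≫ Zj.2.fromSpec = u₀ g ≫ s)
    (hφR : ∀ x, φ x ∈ Set.range (algebraMap z.Ring g.R')) :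
    ∃ (K : Adm U) (N : K.obj.Opens) (h : (N : Scheme.{u}) ⟶ Z), z.x K ∈ N ∧ Ext W f s K N h := by
  classical
  obtain ⟨c, h0c, hgood⟩ := exists_good z g Zj φ hφ
  choose θ v hv hθ using fun (d : z.Chart) (hcd : c.Le d) =>
    exists_theta z g Zj d (Chart.le_trans h0c hcd) (hgood d hcd (Chart.le_trans h0c hcd))
  let α := ((f ≫ W.ι).appLE Wa.1 Zj.1 hZj).hom
  haveI := Zj.2.isOpenImmersion_fromSpec
  haveI := Wa.2.isOpenImmersion_fromSpec
  obtain ⟨G, hG⟩ : ∃ G : Finset Γ(Z, Zj.1),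
      Subring.closure (Set.range α ∪ (G : Set Γ(Z, Zj.1))) = ⊤ := by
    haveI : LocallyOfFiniteType (f ≫ W.ι) := inferInstance
    have hft := (f ≫ W.ι).finiteType_appLE Wa.2 Zj.2 hZj
    letI := α.toAlgebra
    obtain ⟨G, hG⟩ := (hft : Algebra.FiniteType Γ(S, Wa.1) Γ(Z, Zj.1)).1
    refine ⟨G, eq_top_iff.2 fun x _ => ?_⟩
    have hx : x ∈ Algebra.adjoin Γ(S, Wa.1) (G : Set Γ(Z, Zj.1)) := hG ▸ Algebra.mem_top
    rw [← Subalgebra.mem_toSubring, Algebra.adjoin_eq_ring_closure] at hx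
    exact hx
  choose dd hcdd hdd using fun x => exists_mem_range z g Zj hφ h0c θ v hv hθ x (hφR x)
  obtain ⟨e, hce, hGe⟩ := Chart.exists_ub_finset G dd c
  have hce' := Chart.le_trans h0c hce
  let T := g.T' hce'
  haveI := e.N.2.isLocalization_basicOpen T
  let res := (e.K.obj.presheaf.map (homOfLE (e.K.obj.basicOpen_le T)).op).hom
  have hres : Function.Injective res :=
    IsLocalization.injective Γ(e.K.obj, e.K.obj.basicOpen T) (M := Submonoid.powers T)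
      (Submonoid.powers_le.mpr (g.T'_nzd hce'))
  have heW : e.N.1 ≤ e.K.π ⁻¹ᵁ Wa.1 := by
    refine preimage_comp_le (Adm.tr_π hce'.le) hgW ?_
    exact hce'.sub
  have hθα : ∀ y, θ e hce (α y) = res ((e.K.π.appLE Wa.1 e.N.1 heW).hom y) := by
    have : (θ e hce).comp α = res.comp (e.K.π.appLE Wa.1 e.N.1 heW).hom := by
      refine specMap_hom_ext (j := Wa.2.fromSpec) ?_
      simp only [CommRingCat.ofHom_comp, Spec.map_comp, Category.assoc, CommRingCat.ofHom_hom, α, res]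
      rw [IsAffineOpen.SpecMap_appLE_fromSpec (f ≫ W.ι) Wa.2 Zj.2 hZj, reassoc_of% (hθ e hce),
        reassoc_of% hs, Scheme.homOfLE_ι, hv,
        IsAffineOpen.SpecMap_appLE_fromSpec e.K.π Wa.2 e.N.2 heW, ← Category.assoc,
        e.N.2.map_fromSpec (e.N.2.basicOpen T) (homOfLE (e.K.obj.basicOpen_le T)).op]
    exact fun y => congrArg (· y) this
  have hrange : ∀ x, θ e hce x ∈ res.range := by
    intro x
    have hx : x ∈ Subring.closure (Set.range α ∪ (G : Set Γ(Z, Zj.1))) := hG ▸ trivial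
    refine (Subring.closure_le (t := res.range.comap (θ e hce))).2 ?_ hx
    rintro y (⟨y, rfl⟩ | hy)
    · exact ⟨_, (hθα y).symm⟩
    · obtain ⟨a, ha⟩ := hdd y e (hGe y hy)
      exact ⟨a, ha⟩
  let eq := RingEquiv.ofBijective res.rangeRestrict
    ⟨fun a b hab => hres (congrArg Subtype.val hab), RingHom.rangeRestrict_surjective res⟩
  let θ₀ : Γ(Z, Zj.1) →+* e.A := eq.symm.toRingHom.comp ((θ e hce).codRestrict res.range hrange)
  have hθ₀ : ∀ x, res (θ₀ x) = θ e hce x := fun x =>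
    congrArg Subtype.val (eq.apply_symm_apply ((θ e hce).codRestrict res.range hrange x))
  refine ⟨e.K, e.N.1, e.N.2.isoSpec.hom ≫ Spec.map (CommRingCat.ofHom θ₀) ≫ Zj.2.fromSpec,
    e.hN, ?_, fun A a w haw => ?_⟩
  · have hcomp : θ₀.comp α = (e.K.π.appLE Wa.1 e.N.1 heW).hom :=
      RingHom.ext fun y => hres (by rw [RingHom.comp_apply, hθ₀, hθα])
    have hcomp' : (f ≫ W.ι).appLE Wa.1 Zj.1 hZj ≫ CommRingCat.ofHom θ₀ =
        e.K.π.appLE Wa.1 e.N.1 heW := CommRingCat.hom_ext hcomp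
    simp only [Category.assoc]
    rw [← IsAffineOpen.SpecMap_appLE_fromSpec (f ≫ W.ι) Wa.2 Zj.2 hZj, ← Spec.map_comp_assoc, hcomp',
      IsAffineOpen.SpecMap_appLE_fromSpec e.K.π Wa.2 e.N.2 heW, IsAffineOpen.isoSpec_hom_fromSpec_assoc]
  · have hD := e.N.2.basicOpen T
    haveI := hD.isOpenImmersion_fromSpec
    have hr : Set.range (a ≫ e.N.1.ι) ⊆ Set.range hD.fromSpec := by
      rintro _ ⟨p, rfl⟩
      rw [hD.range_fromSpec, ← g.basicOpen_T' hce']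
      refine ⟨(a p).2, ?_⟩
      have := congrArg (fun φ => φ p) haw
      show e.K.π ((a ≫ e.N.1.ι) p) ∈ U
      rw [← Scheme.Hom.comp_apply, Category.assoc, haw]
      exact (w p).2
    let a' := IsOpenImmersion.lift hD.fromSpec (a ≫ e.N.1.ι) hr
    have ha' : a' ≫ hD.fromSpec = a ≫ e.N.1.ι := IsOpenImmersion.lift_fac _ _ _
    have hw : w = a' ≫ v e hce := by
      rw [← cancel_mono U.ι, Category.assoc, hv, reassoc_of% ha']
      exact haw.symm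
    rw [hw, Category.assoc, ← hθ]
    have hfac : a ≫ e.N.2.isoSpec.hom = a' ≫ Spec.map (CommRingCat.ofHom res) := by
      haveI := e.N.2.isOpenImmersion_fromSpec
      rw [← cancel_mono e.N.2.fromSpec, Category.assoc, IsAffineOpen.isoSpec_hom_fromSpec,
        Category.assoc, CommRingCat.ofHom_hom, e.N.2.map_fromSpec hD]
      exact ha'.symm
    rw [reassoc_of% hfac, ← Spec.map_comp_assoc, ← CommRingCat.ofHom_comp,
      show res.comp θ₀ = θ e hce from RingHom.ext hθ₀]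


/-- The core: near every point of the limit lying over `W` the section extends. -/
theorem exists_ext [CompactSpace S] [QuasiSeparatedSpace S] [IsProper f] {hUW : U ≤ W}
    (hs : s ≫ f = S.homOfLE hUW) (hzW : ∀ K : Adm U, K.π (z.x K) ∈ W) :
    ∃ (K : Adm U) (N : K.obj.Opens) (h : (N : Scheme.{u}) ⟶ Z), z.x K ∈ N ∧ Ext W f s K N h := by
  classical
  let K₀ := Classical.arbitrary (Adm U)
  by_cases hU : K₀.π (z.x K₀) ∈ U
  · exact ⟨K₀, _, _, hU, ext_preimage hs K₀⟩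
  obtain ⟨Wa, hWaW, hwWa⟩ := exists_affine_le (hzW K₀)
  obtain ⟨g, hgK, hgN⟩ := exists_gen_le z (K := K₀) (O := K₀.π ⁻¹ᵁ Wa.1) hwWa
  have hgW : g.N.1 ≤ g.K.π ⁻¹ᵁ Wa.1 := fun w hw => by
    obtain ⟨v, hv, hvw⟩ := hgN w hw
    show g.K.π w ∈ Wa.1
    rw [← hvw]
    exact hv
  obtain ⟨Zj, hZj, φ, hφ, hφR⟩ := exists_center z hs g (by rwa [← z.π_eq K₀ g.K]) Wa hWaW hgW
  exact exists_ext_of_center z hs g Wa hgW Zj hZj φ hφ hφR

variable (W f s) in
/-- The points near which the section extends. -/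
def good (K : Adm U) : Set K.obj :=
  {x | ∃ (N : K.obj.Opens) (h : (N : Scheme.{u}) ⟶ Z), x ∈ N ∧ Ext W f s K N h}

omit [Nonempty (Adm U)] in
theorem isOpen_good (K : Adm U) : IsOpen (good W f s K) :=
  isOpen_iff_forall_mem_open.2 fun x hx => by
    obtain ⟨N, h, hxN, hE⟩ := hx
    exact ⟨N, fun y hy => ⟨N, h, hy, hE⟩, N.2, hxN⟩

omit [Nonempty (Adm U)] in
/-- Glueing the local extensions. -/
theorem exists_glue [IsSeparated f] (K : Adm U) (hK : ∀ x, K.π x ∈ W → x ∈ good W f s K) :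
    ∃ h : ((K.π ⁻¹ᵁ W : K.obj.Opens) : Scheme.{u}) ⟶ Z, Ext W f s K (K.π ⁻¹ᵁ W) h := by
  choose N h hxN hE using fun x : (K.π ⁻¹ᵁ W : K.obj.Opens) => hK x.1 x.2
  let O : (K.π ⁻¹ᵁ W : K.obj.Opens) → (K.π ⁻¹ᵁ W).toScheme.Opens := fun x =>
    (K.π ⁻¹ᵁ W).ι ⁻¹ᵁ N x
  let 𝒰 := (K.π ⁻¹ᵁ W).toScheme.openCoverOfIsOpenCover O
    (eq_top_iff.2 fun x _ => Opens.mem_iSup.2 ⟨x, hxN x⟩)
  let m : ∀ x, (O x).toScheme ⟶ Z := fun x =>
    (K.π ⁻¹ᵁ W).ι.resLE (N x) (O x) le_rfl ≫ h x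
  have hm₁ : ∀ x, m x ≫ f ≫ W.ι = (O x).ι ≫ (K.π ⁻¹ᵁ W).ι ≫ K.π := fun x => by
    simp only [m, Category.assoc, (hE x).comp_eq, Scheme.Hom.resLE_comp_ι_assoc]
  have hm₂ : ∀ x ⦃A : Scheme.{u}⦄ (a : A ⟶ (O x).toScheme) (v : A ⟶ (U : Scheme.{u})),
      a ≫ (O x).ι ≫ (K.π ⁻¹ᵁ W).ι ≫ K.π = v ≫ U.ι → a ≫ m x = v ≫ s := fun x A a v hav => by
    simp only [m, ← Category.assoc]
    refine (hE x).agree _ v ?_
    simp only [Category.assoc, Scheme.Hom.resLE_comp_ι_assoc]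
    exact hav
  let h₀ := 𝒰.glueMorphisms m fun (x y : ↥(K.π ⁻¹ᵁ W)) => by
    haveI : IsOpenImmersion (pullback.fst (O x).ι (O y).ι ≫ (O x).ι ≫ (K.π ⁻¹ᵁ W).ι) := inferInstance
    let j := pullback.fst (O x).ι (O y).ι ≫ (O x).ι ≫ (K.π ⁻¹ᵁ W).ι
    haveI : IsSchemeTheoreticallyDominant (j ⁻¹ᵁ (K.π ⁻¹ᵁ U)).ι := by
      have sq := (isPullback_morphismRestrict j (K.π ⁻¹ᵁ U)).flip
      exact IsSchemeTheoreticallyDominant.of_isPullback sq.flip
    have hjU : ∀ p : ↥(j ⁻¹ᵁ (K.π ⁻¹ᵁ U)), K.π (j p.1) ∈ U := fun p => p.2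
    let v : (j ⁻¹ᵁ (K.π ⁻¹ᵁ U)).toScheme ⟶ (U : Scheme.{u}) := (j ∣_ (K.π ⁻¹ᵁ U)) ≫ (K.π ∣_ U)
    have hv : v ≫ U.ι = (j ⁻¹ᵁ (K.π ⁻¹ᵁ U)).ι ≫ j ≫ K.π := by
      simp only [v, Category.assoc, morphismRestrict_ι]
      rw [← Category.assoc, morphismRestrict_ι, Category.assoc]
    show pullback.fst (O x).ι (O y).ι ≫ m x = pullback.snd (O x).ι (O y).ι ≫ m y
    refine hom_ext_dense (j ⁻¹ᵁ (K.π ⁻¹ᵁ U)).ι f ?_ ?_
    · rw [← cancel_mono W.ι]
      simp only [Category.assoc, hm₁]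
      rw [pullback.condition_assoc]
    · refine ((Category.assoc _ _ _).symm.trans (hm₂ x _ v ?_)).trans
        (((Category.assoc _ _ _).symm.trans (hm₂ y _ v ?_)).symm)
      · simp only [hv, j, Category.assoc]
      · simp only [hv, j, Category.assoc]
        exact congrArg (_ ≫ ·) (pullback.condition_assoc _).symm
  refine ⟨h₀, ?_, fun A a v hav => ?_⟩
  · refine 𝒰.hom_ext _ _ fun x => ?_
    rw [𝒰.ι_glueMorphisms_assoc]
    exact hm₁ x
  · refine Scheme.Cover.hom_ext (𝒰.pullback₁ a) _ _ fun (x : ↥(K.π ⁻¹ᵁ W)) => ?_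
    show pullback.fst a (O x).ι ≫ a ≫ h₀ = pullback.fst a (O x).ι ≫ v ≫ s
    rw [pullback.condition_assoc,
      show (O x).ι ≫ h₀ = m x from 𝒰.ι_glueMorphisms _ _ x, ← Category.assoc (pullback.fst a (O x).ι)]
    refine hm₂ x _ _ ?_
    rw [← pullback.condition_assoc, Category.assoc, hav]

theorem mem_preimage_of {X Y : Scheme.{u}} (f : X ⟶ Y) {N : Y.Opens} {y : X} (h : f y ∈ N) :
    y ∈ f ⁻¹ᵁ N := h

theorem mem_inter_compl {X Y : Scheme.{u}} {f : X ⟶ Y} {V : Y.Opens} {G : Set X} {x : X} :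
    x ∈ (f ⁻¹' (V : Set Y)) ∩ Gᶜ ↔ f x ∈ V ∧ x ∉ G := Iff.rfl

theorem cc_preimage {X Y : Scheme.{u}} (f : X ⟶ Y) [QuasiCompact f] {V : Y.Opens}
    (hV : IsCompact (V : Set Y)) {G : Set X} (hG : IsOpen G) [PrespectralSpace X] :
    SpecLib.CC ((f ⁻¹' (V : Set Y)) ∩ Gᶜ) :=
  (SpecLib.cc_of_isOpen_isCompact (V.2.preimage f.continuous) (f.isCompact_preimage hV)).inter
    (SpecLib.cc_of_isClosed hG.isClosed_compl)

omit [Nonempty (Adm U)] in
theorem notMem_good {K P : Adm U} (hKP : K ≤ P) {y : P.obj} (hy : y ∉ good W f s P) :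
    Adm.tr hKP y ∉ good W f s K := by
  intro hg
  obtain ⟨N, h, hN, hE⟩ := hg
  exact hy ⟨Adm.tr hKP ⁻¹ᵁ N, _, mem_preimage_of _ hN, hE.pullback hKP _ (le_refl _)⟩

omit [Nonempty (Adm U)] in
theorem mem_preimage_tr {K P : Adm U} (hKP : K ≤ P) {y : P.obj} (hy : P.π y ∈ W) :
    K.π (Adm.tr hKP y) ∈ W := by
  rw [Adm.π_tr_apply]; exact hy

/-- A section of a proper morphism over a quasi-compact open extends after an admissible blow-up. -/
theorem exists_extension [CompactSpace S] [QuasiSeparatedSpace S] (hW : IsCompact (W : Set S))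
    [IsProper f] {hUW : U ≤ W} (hs : s ≫ f = S.homOfLE hUW) :
    ∃ (K : Adm U) (h : ((K.π ⁻¹ᵁ W : K.obj.Opens) : Scheme.{u}) ⟶ Z),
      Ext W f s K (K.π ⁻¹ᵁ W) h := by
  by_contra hne
  have hex : ∀ K : Adm U, ∃ x, K.π x ∈ W ∧ x ∉ good W f s K := fun K => by
    by_contra h
    push Not at h
    exact hne ⟨K, exists_glue K h⟩
  let Bad : ∀ K : Adm U, Set K.obj := fun K => (K.π ⁻¹' (W : Set S)) ∩ (good W f s K)ᶜ
  have hne : ∀ K, (Bad K).Nonempty := fun K => let ⟨x, hx, hg⟩ := hex K; ⟨x, hx, hg⟩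
  obtain ⟨x, hx, hxB⟩ := Adm.exists_compatible Bad
    (fun K => cc_preimage K.π hW (isOpen_good K)) hne
    (fun {K P} hKP y hy => mem_inter_compl.2
      ⟨mem_preimage_tr hKP (mem_inter_compl.1 hy).1, notMem_good hKP (mem_inter_compl.1 hy).2⟩)
  obtain ⟨K, N, h, hN, hE⟩ := exists_ext (⟨x, hx⟩ : Pt U) hs fun K => (hxB K).1
  exact (hxB K).2 ⟨N, h, hN, hE⟩

end Groth.Agent.ZRLim
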