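import Groth.Agent.ZRLim.Extend
import Groth.Agent.BlowSep.Extend

/-!
# A separated birational morphism becomes an open immersion after admissible blow-ups
-/

universe u

set_option autoImplicit false
set_option linter.style.haveILetI false
set_option backward.isDefEq.respectTransparency false
set_option backward.isDefEq.respectTransparency.types false

open CategoryTheory CategoryTheory.Limits AlgebraicGeometry TopologicalSpace
open Scheme (IdealSheafData)

namespace Groth.Agent.ZRLim.Bir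

variable {X S : Scheme.{u}} (f : X ⟶ S) {U : S.Opens}

/-- The inverse of `f` over `U`, followed by the inclusion. -/
noncomputable def sec' [IsIso (f ∣_ U)] : (U : Scheme.{u}) ⟶ X := inv (f ∣_ U) ≫ (f ⁻¹ᵁ U).ι

@[reassoc]
theorem sec'_f [IsIso (f ∣_ U)] : sec' f ≫ f = U.ι := by
  rw [sec', Category.assoc, IsIso.inv_comp_eq, morphismRestrict_ι]

/-- A morphism to `X` landing over `U` is the composite with the inverse. -/
theorem eq_comp_sec' [IsIso (f ∣_ U)] {A : Scheme.{u}} (a : A ⟶ X) (v : A ⟶ (U : Scheme.{u}))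
    (h : a ≫ f = v ≫ U.ι) : a = v ≫ sec' f := by
  have hr : Set.range a ⊆ Set.range (f ⁻¹ᵁ U).ι := by
    rintro _ ⟨p, rfl⟩
    rw [Scheme.Opens.range_ι]
    show f (a p) ∈ U
    rw [← Scheme.Hom.comp_apply, h]
    exact (v p).2
  let a' := IsOpenImmersion.lift (f ⁻¹ᵁ U).ι a hr
  have ha' : a' ≫ (f ⁻¹ᵁ U).ι = a := IsOpenImmersion.lift_fac _ _ _
  have h2 : a' ≫ (f ∣_ U) = v := by
    rw [← cancel_mono U.ι, Category.assoc, morphismRestrict_ι, reassoc_of% ha', h]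
  rw [← h2, sec', Category.assoc, IsIso.hom_inv_id_assoc, ha']

/-- The pulled back ideal. -/
noncomputable def pull (K : Adm U) : Adm (f ⁻¹ᵁ U) :=
  ⟨K.1.comap f, MorLib.IdealFG.isFG_comap K.2.1 f, by
    rw [IdealSheafData.support_comap]
    ext w
    show f w ∈ (K.1.support : Set S) ↔ ¬ f w ∈ (U : Set S)
    rw [K.2.2]
    rfl⟩

theorem cartier_q (K : Adm U) : BlowUp.IsEffCartierIdeal (K.1.comap ((pull f K).π ≫ f)) := by
  rw [IdealSheafData.comap_comp]
  exact (pull f K).isBlowUp.1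

/-- The induced map of blow-ups. -/
noncomputable def q (K : Adm U) : (pull f K).obj ⟶ K.obj :=
  (K.isBlowUp.2 _ ((pull f K).π ≫ f) (cartier_q f K)).choose

@[reassoc (attr := simp)]
theorem q_π (K : Adm U) : q f K ≫ K.π = (pull f K).π ≫ f :=
  (K.isBlowUp.2 _ ((pull f K).π ≫ f) (cartier_q f K)).choose_spec.1

theorem π_q_apply (K : Adm U) (x : (pull f K).obj) : K.π (q f K x) = f ((pull f K).π x) := by
  rw [← Scheme.Hom.comp_apply, q_π]; rfl

theorem preimage_q (K : Adm U) : q f K ⁻¹ᵁ (K.π ⁻¹ᵁ U) = (pull f K).π ⁻¹ᵁ (f ⁻¹ᵁ U) := by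
  rw [← Scheme.Hom.comp_preimage, q_π, Scheme.Hom.comp_preimage]

theorem pull_mono {K P : Adm U} (h : K ≤ P) : pull f K ≤ pull f P := by
  have hint : ModPair.interior (K.1.comap P.π) = P.π ⁻¹ᵁ U := by
    refine TopologicalSpace.Opens.ext (Set.ext fun z => ?_)
    show z ∉ ((K.1.comap P.π).support : Set P.obj) ↔ P.π z ∈ (U : Set S)
    rw [IdealSheafData.support_comap]
    show P.π z ∉ (K.1.support : Set S) ↔ _
    rw [K.2.2, Set.notMem_compl_iff]
  haveI : IsSchemeTheoreticallyDominant (q f P ⁻¹ᵁ ModPair.interior (K.1.comap P.π)).ι := by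
    rw [hint, preimage_q]
    exact (pull f P).dense
  have := (ModPairLib.comap_preimage_dense _ h (q f P)).2
  rw [← IdealSheafData.comap_comp, q_π, IdealSheafData.comap_comp] at this
  exact this

theorem _root_.Groth.Agent.ZRLim.eq_of_isBlowUp {A C S : Scheme.{u}} {π : C ⟶ S} {I : S.IdealSheafData}
    (hb : BlowUp.IsBlowUp π I) {g : A ⟶ S} (hc : BlowUp.IsEffCartierIdeal (I.comap g)) {m₁ m₂ : A ⟶ C}
    (h₁ : m₁ ≫ π = g) (h₂ : m₂ ≫ π = g) : m₁ = m₂ :=
  (hb.2 A g hc).unique h₁ h₂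

theorem tr_q_aux₁ {A B C D E : Scheme.{u}} {t : A ⟶ B} {p : B ⟶ D} {p' : A ⟶ D} {m : B ⟶ C}
    {c : C ⟶ E} {n : D ⟶ E} (h₁ : t ≫ p = p') (h₂ : m ≫ c = p ≫ n) : (t ≫ m) ≫ c = p' ≫ n := by
  rw [Category.assoc, h₂, reassoc_of% h₁]

theorem tr_q_aux₂ {A B C D E : Scheme.{u}} {m : A ⟶ B} {t : B ⟶ C} {c : C ⟶ E} {c' : B ⟶ E}
    {p' : A ⟶ D} {n : D ⟶ E} (h₁ : t ≫ c = c') (h₂ : m ≫ c' = p' ≫ n) : (m ≫ t) ≫ c = p' ≫ n := by
  rw [Category.assoc, h₁, h₂]

theorem cartier_of_le {K P : Adm U} (h : K ≤ P) :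
    BlowUp.IsEffCartierIdeal (K.1.comap ((pull f P).π ≫ f)) := by
  rw [IdealSheafData.comap_comp]
  exact pull_mono f h

theorem tr_q_π {K P : Adm U} (h : K ≤ P) :
    (Adm.tr (pull_mono f h) ≫ q f K) ≫ K.π = (pull f P).π ≫ f :=
  tr_q_aux₁ (Adm.tr_π (pull_mono f h)) (q_π f K)

theorem eq_q_tr {K P : Adm U} (h : K ≤ P) (m : (pull f P).obj ⟶ K.obj)
    (hm : m ≫ K.π = (pull f P).π ≫ f) : m = q f P ≫ Adm.tr h :=
  eq_of_isBlowUp K.isBlowUp (cartier_of_le f h) hm (tr_q_aux₂ (Adm.tr_π h) (q_π f P))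

theorem tr_q {K P : Adm U} (h : K ≤ P) :
    Adm.tr (pull_mono f h) ≫ q f K = q f P ≫ Adm.tr h :=
  eq_q_tr f h _ (tr_q_π f h)

theorem apply_eq_of_comp_eq {A B C D : Scheme.{u}} {m : A ⟶ B} {n : B ⟶ D} {m' : A ⟶ C} {n' : C ⟶ D}
    (e : m ≫ n = m' ≫ n') (x : A) : n (m x) = n' (m' x) := by
  rw [← Scheme.Hom.comp_apply, e, Scheme.Hom.comp_apply]

theorem q_tr_apply {K P : Adm U} (h : K ≤ P) (x : (pull f P).obj) :
    q f K (Adm.tr (pull_mono f h) x) = Adm.tr h (q f P x) :=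
  @apply_eq_of_comp_eq (pull f P).obj (pull f K).obj P.obj K.obj (Adm.tr (pull_mono f h)) (q f K) (q f P)
    (Adm.tr h) (tr_q f h) x

/-- `f` as a morphism to the top open. -/
noncomputable abbrev topHom : X ⟶ ((⊤ : S.Opens) : Scheme.{u}) := f ≫ S.topIso.inv

theorem topHom_ι : topHom f ≫ (⊤ : S.Opens).ι = f := by
  simp only [topHom, Category.assoc, ← Scheme.topIso_hom, Iso.inv_hom_id, Category.comp_id]

theorem sec'_topHom [IsIso (f ∣_ U)] : sec' f ≫ topHom f = S.homOfLE (le_top : U ≤ ⊤) := by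
  rw [← cancel_mono (⊤ : S.Opens).ι, Category.assoc, topHom_ι, Scheme.homOfLE_ι, sec'_f]

variable [IsIso (f ∣_ U)]

/-- The points of `K.obj` near which `f` has a section. -/
noncomputable def good' (K : Adm U) : Set K.obj := good ⊤ (topHom f) (sec' f) K

omit [IsIso (f ∣_ U)] in
open SpecLib in
/-- A projective system of nonempty constructibly closed subsets has a compatible system of points. -/
theorem exists_compatible_of [Nonempty (Adm U)] (Y : Adm U → Scheme.{u})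
    [∀ K, CompactSpace (Y K)] [∀ K, QuasiSeparatedSpace (Y K)]
    (t : ∀ {K P : Adm U}, K ≤ P → (Y P ⟶ Y K)) [∀ {K P : Adm U} (h : K ≤ P), QuasiCompact (t h)]
    (ht : ∀ {K P Q : Adm U} (h : K ≤ P) (h' : P ≤ Q), t h' ≫ t h = t (h.trans h'))
    (Bad : ∀ K : Adm U, Set (Y K)) (hcc : ∀ K, CC (Bad K)) (hne : ∀ K, (Bad K).Nonempty)
    (hmono : ∀ {K P : Adm U} (h : K ≤ P) (x : Y P), x ∈ Bad P → t h x ∈ Bad K) :
    ∃ x : ∀ K : Adm U, Y K, (∀ {K P : Adm U} (h : K ≤ P), t h (x P) = x K) ∧ ∀ K, x K ∈ Bad K := by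
  classical
  let W := fun K : Adm U => WithConstructibleTopology (Y K)
  let C : (Σ' (K P : Adm U), K ≤ P) ⊕ Adm U → Set (∀ K, W K) := fun i => match i with
    | .inl k => {u | WithTopology.toTopology _ (t k.2.2 (u k.2.1).ofTopology) = u k.1}
    | .inr K => (fun u => u K) ⁻¹' {w | w.ofTopology ∈ Bad K}
  have hcl : ∀ i, IsClosed (C i) := by
    rintro (⟨K, P, h⟩ | K)
    · haveI := SpecLib.t2Space_W (X := Y K)
      exact isClosed_eq ((continuous_mapW (Scheme.Hom.isSpectralMap (t h))).comp (continuous_apply P))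
        (continuous_apply K)
    · exact (isClosed_W (hcc K)).preimage (continuous_apply K)
  obtain ⟨u, -, hu⟩ : (Set.univ ∩ ⋂ i, C i).Nonempty := by
    refine isCompact_univ.inter_iInter_nonempty C hcl fun s => ?_
    obtain ⟨P, hP⟩ := Finset.exists_le ((s.image fun i => match i with
      | .inl k => k.2.1
      | .inr K => K))
    obtain ⟨y, hy⟩ := hne P
    let u : ∀ K, W K := fun K => WithTopology.toTopology _
      (if h : K ≤ P then t h y else (hne K).some)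
    refine ⟨u, trivial, Set.mem_iInter₂.2 fun i hi => ?_⟩
    rcases i with ⟨K, K', h⟩ | K
    · have hK' : K' ≤ P := hP K' (Finset.mem_image.2 ⟨_, hi, rfl⟩)
      show WithTopology.toTopology _ (t h (u K').ofTopology) = u K
      simp only [u, dif_pos hK', dif_pos (h.trans hK')]
      rw [← Scheme.Hom.comp_apply, ht]
    · have hK : K ≤ P := hP K (Finset.mem_image.2 ⟨_, hi, rfl⟩)
      show (u K).ofTopology ∈ Bad K
      simp only [u, dif_pos hK]
      exact hmono hK y hy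
  exact ⟨fun K => (u K).ofTopology,
    fun {K P} h => congrArg WithTopology.ofTopology (Set.mem_iInter.1 hu (.inl ⟨K, P, h⟩)),
    fun K => Set.mem_iInter.1 hu (.inr K)⟩

theorem notMem_good' [Nonempty (Adm U)] {K P : Adm U} (h : K ≤ P) (y : (pull f P).obj)
    (hy : q f P y ∉ good' f P) : q f K (Adm.tr (pull_mono f h) y) ∉ good' f K := by
  rw [q_tr_apply f h y]
  exact notMem_good h hy

theorem mem_compl_preimage_iff {A B : Scheme.{u}} (m : A ⟶ B) (G : Set B) (x : A) :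
    x ∈ (m ⁻¹' G)ᶜ ↔ m x ∉ G := Iff.rfl

instance isProper_tr {K P : Adm (f ⁻¹ᵁ U)} (h : K ≤ P) : IsProper (Adm.tr h) := by
  haveI : IsProper (Adm.tr h ≫ K.π) := by rw [Adm.tr_π]; infer_instance
  exact MorphismProperty.of_postcomp (W := @IsProper) (W' := @IsSeparated) _ K.π inferInstance this

theorem exists_compatible [CompactSpace S] [QuasiSeparatedSpace S] [CompactSpace X]
    [QuasiSeparatedSpace X] [Nonempty (Adm U)] (hne : ∀ K : Adm U, ∃ x, q f K x ∉ good' f K) :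
    ∃ x : ∀ K : Adm U, (pull f K).obj,
      (∀ {K P : Adm U} (h : K ≤ P), Adm.tr (pull_mono f h) (x P) = x K) ∧
      ∀ K, q f K (x K) ∉ good' f K := by
  obtain ⟨x, hx, hxB⟩ := exists_compatible_of (fun K : Adm U => (pull f K).obj)
    (fun {K P} h => Adm.tr (pull_mono f h)) (fun h h' => Adm.tr_trans _ _)
    (fun K => (q f K ⁻¹' good' f K)ᶜ)
    (fun K => SpecLib.cc_of_isClosed (((isOpen_good K).preimage (q f K).continuous).isClosed_compl))
    (fun K => let ⟨y, hy⟩ := hne K; ⟨y, (mem_compl_preimage_iff (q f K) (good' f K) y).2 hy⟩)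
    (fun {K P} h y hy => (mem_compl_preimage_iff (q f K) (good' f K) _).2
      (notMem_good' f h y ((mem_compl_preimage_iff (q f P) (good' f P) y).1 hy)))
  exact ⟨x, hx, fun K => (mem_compl_preimage_iff (q f K) (good' f K) _).1 (hxB K)⟩

variable {f}
variable [Nonempty (Adm U)] {z : Pt U} (x : ∀ K : Adm U, (pull f K).obj)

omit [IsIso (f ∣_ U)] [Nonempty (Adm U)] in
theorem exists_chartX (hz : ∀ K, q f K (x K) = z.x K) (c : z.Chart) (O : (pull f c.K).obj.Opens)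
    (hO : x c.K ∈ O) : ∃ M : (pull f c.K).obj.affineOpens,
      M.1 ≤ O ∧ M.1 ≤ q f c.K ⁻¹ᵁ c.N.1 ∧ x c.K ∈ M.1 := by
  obtain ⟨M, hM, hxM⟩ := exists_affine_le (O := O ⊓ q f c.K ⁻¹ᵁ c.N.1) (y := x c.K)
    ⟨hO, mem_preimage_of _ (hz c.K ▸ c.hN)⟩
  exact ⟨M, hM.trans inf_le_left, hM.trans inf_le_right, hxM⟩

omit [IsIso (f ∣_ U)] [Nonempty (Adm U)] in
theorem comap_π_eq (K P : Adm U) :
    (K.1.comap f).comap (pull f P).π = (K.1.comap P.π).comap (q f P) := by
  rw [← IdealSheafData.comap_comp, ← IdealSheafData.comap_comp, q_π]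

omit [IsIso (f ∣_ U)] [Nonempty (Adm U)] in
theorem T'_nzd_X (g : z.Gen) {c : z.Chart} (h : g.chart.Le c) (M : (pull f c.K).obj.affineOpens)
    (e : M.1 ≤ q f c.K ⁻¹ᵁ c.N.1) :
    (q f c.K).appLE c.N.1 M.1 e (g.T' h) ∈ nonZeroDivisors Γ((pull f c.K).obj, M.1) := by
  refine ModPairLib.generator_mem_nonZeroDivisors (I := (g.K.1.comap f).comap (pull f c.K).π)
    (pull_mono f h.le) ?_
  rw [comap_π_eq g.K c.K, ModPairLib.ideal_comap _ (q f c.K) c.N M e, g.pull_ideal h.le c.N h.sub,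
    Ideal.map_span, Set.image_singleton]
  rfl

omit [IsIso (f ∣_ U)] in
theorem not_isUnit_X (hz : ∀ K, q f K (x K) = z.x K) (c : z.Chart)
    (M : (pull f c.K).obj.affineOpens) (e : M.1 ≤ q f c.K ⁻¹ᵁ c.N.1) (hx : x c.K ∈ M.1) (a : c.A)
    (ha : IsUnit ((q f c.K).appLE c.N.1 M.1 e a)) : IsUnit (c.sec a) := by
  refine z.isUnit_of_iff.2 ((Scheme.mem_basicOpen c.K.obj a _ c.hN).1 ?_)
  have h := ((pull f c.K).obj.basicOpen_of_isUnit ha).ge hx
  rw [Scheme.basicOpen_appLE] at h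
  rw [← hz c.K]
  exact h.2

theorem appLE_hom_comm {A B C D : Scheme.{u}} {p : A ⟶ B} {p' : C ⟶ D} {m : A ⟶ C} {n : B ⟶ D}
    (e : m ≫ p' = p ≫ n) {O : D.Opens} {O₁ : C.Opens} {O₂ : B.Opens} {O₃ : A.Opens}
    (e₁ : O₁ ≤ p' ⁻¹ᵁ O) (e₂ : O₃ ≤ m ⁻¹ᵁ O₁) (e₃ : O₂ ≤ n ⁻¹ᵁ O) (e₄ : O₃ ≤ p ⁻¹ᵁ O₂) (a : Γ(D, O)) :
    p.appLE O₂ O₃ e₄ (n.appLE O O₂ e₃ a) = m.appLE O₁ O₃ e₂ (p'.appLE O O₁ e₁ a) := by
  rw [Pt.appLE_comp_eq rfl _ _ _ _ _ (Pt.preimage_comp_le rfl e₃ e₄) a,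
    Pt.appLE_comp_eq e _ _ _ _ _ (Pt.preimage_comp_le rfl e₃ e₄) a]

omit [Nonempty (Adm U)] in
/-- The part over `U` of the blow-up maps to `X` by the section. -/
theorem q_sec'_apply (K : Adm U) (w : (pull f K).obj) (hw : K.π (q f K w) ∈ U) :
    sec' f ((K.π ∣_ U) ⟨q f K w, hw⟩) = (pull f K).π w := by
  have h1 : f ((pull f K).π w) ∈ U := by rw [← π_q_apply]; exact hw
  have e : (K.π ∣_ U) ⟨q f K w, hw⟩ = (f ∣_ U) ⟨(pull f K).π w, h1⟩ := by
    refine restrict_eq _ _ ⟨q f K w, hw⟩ _ ?_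
    refine (π_q_apply f K w).trans ?_
    exact (congrArg (fun φ => φ ⟨(pull f K).π w, h1⟩) (morphismRestrict_ι f U)).symm
  rw [e, sec', ← Scheme.Hom.comp_apply, IsIso.hom_inv_id_assoc]
  rfl

theorem exists_dvd_of_not [CompactSpace S] [QuasiSeparatedSpace S] (g : z.Gen) (𝔠 : Ideal g.chart.A)
    (h : g.t ∉ (𝔠.map g.chart.sec).radical) (a : g.chart.A) (ha : a ∈ 𝔠) (n : ℕ) :
    g.t ^ n ∣ g.chart.sec a :=
  (dvd_pow_or_pow_dvd g.isAdmPrincipal _ n).resolve_left fun hd =>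
    h ⟨n, Ideal.mem_of_dvd _ hd (Ideal.mem_map_of_mem _ ha)⟩

/-- A chart on which finitely many sections are divisible by a power of the generator. -/
theorem exists_chart_dvd (g : z.Gen) (σ : Finset g.chart.A) (n : ℕ)
    (h : ∀ a ∈ σ, g.t ^ n ∣ g.chart.sec a) :
    ∃ (d : z.Chart) (hd : g.chart.Le d), ∀ a ∈ σ, g.T' hd ^ n ∣ Pt.Chart.hom hd a := by
  classical
  have key : ∀ a : g.chart.A, g.t ^ n ∣ g.chart.sec a → ∃ (d : z.Chart) (hd : g.chart.Le d),
      g.T' hd ^ n ∣ Pt.Chart.hom hd a := by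
    rintro a ⟨r, hr⟩
    obtain ⟨c, hc, b, rfl⟩ := Pt.Chart.exists_rep g.chart r
    obtain ⟨d, hd, e⟩ := Pt.Chart.sec_eq_iff (c := c) (a := Pt.Chart.hom hc a) (b := g.T' hc ^ n * b)
      (by rw [Pt.Chart.sec_hom, hr, map_mul, map_pow, g.sec_T'])
    refine ⟨d, Pt.Chart.le_trans hc hd, Pt.Chart.hom hd b, ?_⟩
    rw [← Pt.Chart.hom_hom hc hd, e, map_mul, map_pow, g.T'_hom]
  choose D hD hDa using fun a : σ => key a.1 (h a.1 a.2)
  obtain ⟨d, hgd, hd⟩ := Pt.Chart.exists_ub_finset Finset.univ D g.chart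
  refine ⟨d, hgd, fun a ha => ?_⟩
  have h1 := map_dvd (Pt.Chart.hom (hd ⟨a, ha⟩ (Finset.mem_univ _))) (hDa ⟨a, ha⟩)
  rw [map_pow, g.T'_hom, Pt.Chart.hom_hom] at h1
  exact h1

omit [IsIso (f ∣_ U)] [Nonempty (Adm U)] in
theorem appLE_tr_q {c d : z.Chart} (h : c.Le d) (M : (pull f c.K).obj.Opens)
    (e : M ≤ q f c.K ⁻¹ᵁ c.N.1) (M' : (pull f d.K).obj.Opens) (e' : M' ≤ q f d.K ⁻¹ᵁ d.N.1)
    (e'' : M' ≤ Adm.tr (pull_mono f h.le) ⁻¹ᵁ M) (a : c.A) :
    (q f d.K).appLE d.N.1 M' e' (Pt.Chart.hom h a) =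
      (Adm.tr (pull_mono f h.le)).appLE M M' e'' ((q f c.K).appLE c.N.1 M e a) :=
  appLE_hom_comm (tr_q f h.le) e e'' h.sub e' a

theorem exists_radical {Y : Scheme.{u}} (M : Y.affineOpens) (I : Ideal Γ(Y, M.1)) (T : Γ(Y, M.1))
    (h : ∀ w ∈ M.1, w ∈ Y.basicOpen T → ∃ a ∈ I, w ∈ Y.basicOpen a) : T ∈ I.radical := by
  rw [Ideal.radical_eq_sInf, Ideal.mem_sInf]
  rintro J ⟨hJ, hJp⟩
  by_contra hT
  let p : PrimeSpectrum Γ(Y, M.1) := ⟨J, hJp⟩
  have hw : M.2.fromSpec p ∈ Y.basicOpen T := by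
    rw [← Scheme.Hom.mem_preimage, M.2.fromSpec_preimage_basicOpen]
    exact hT
  obtain ⟨a, ha, hwa⟩ := h _ (Y.basicOpen_le T hw) hw
  rw [← Scheme.Hom.mem_preimage, M.2.fromSpec_preimage_basicOpen] at hwa
  exact hwa (hJ ha)

theorem isUnit_of_pow_eq {A : Type u} [CommRing A] {T : A} (hT : T ∈ nonZeroDivisors A) {m : ℕ} {r : A}
    (h : T ^ m = T ^ (m + 1) * r) : IsUnit T := by
  refine IsUnit.of_mul_eq_one r ?_
  refine (mul_cancel_left_mem_nonZeroDivisors (pow_mem hT m)).1 ?_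
  rw [mul_one, ← mul_assoc, ← pow_succ, ← h]

/-- The point over `U` of the limit lifts to an affine neighbourhood of the image in `X`. -/
theorem u₀_mem [CompactSpace S] [QuasiSeparatedSpace S]
    (hx : ∀ {K P : Adm U} (h : K ≤ P), Adm.tr (pull_mono f h) (x P) = x K)
    (hz : ∀ K, q f K (x K) = z.x K) (g : z.Gen) (hU : g.K.π (z.x g.K) ∉ U) (Zj : X.affineOpens)
    (hZj : (pull f g.K).π (x g.K) ∈ Zj.1) (p : Spec (CommRingCat.of g.R')) :
    (u₀ g ≫ sec' f) p ∈ Zj.1 := by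
  classical
  let c₀ := g.chart
  let O : c₀.K.obj.Opens :=
    (c₀.K.π ⁻¹ᵁ U).ι ''ᵁ (((c₀.K.π ∣_ U) ≫ sec' f) ⁻¹ᵁ Zj.1)
  let 𝔠 : Ideal c₀.A := Ideal.span {a | c₀.K.obj.basicOpen a ≤ O}
  have ht : g.t ∈ (𝔠.map c₀.sec).radical := by
    by_contra hne
    obtain ⟨M, hMZ, hMN, hxM⟩ := exists_chartX x hz c₀ ((pull f c₀.K).π ⁻¹ᵁ Zj.1) hZj
    let φ := ((q f c₀.K).appLE c₀.N.1 M.1 hMN).hom
    have hrad : φ g.T ∈ (𝔠.map φ).radical := by
      refine exists_radical M _ _ fun w hwM hw => ?_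
      have hwN : q f c₀.K w ∈ c₀.N.1 := hMN hwM
      have hwT : q f c₀.K w ∈ c₀.K.obj.basicOpen g.T := by
        rw [show φ g.T = (q f c₀.K).appLE c₀.N.1 M.1 hMN g.T from rfl, Scheme.basicOpen_appLE] at hw
        exact hw.2
      have hwU : c₀.K.π (q f c₀.K w) ∈ U := by
        have hd : g.N.1 ⊓ g.K.π ⁻¹ᵁ U = g.K.obj.basicOpen g.T := by
          rw [← ModPairLib.interior_inter_eq_basicOpen g.ideal_eq, g.K.preimage_eq _ rfl]
        exact (hd.ge hwT).2
      have hwO : q f c₀.K w ∈ O := ⟨⟨_, hwU⟩, by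
        show sec' f ((c₀.K.π ∣_ U) ⟨q f c₀.K w, hwU⟩) ∈ Zj.1
        rw [q_sec'_apply]
        exact hMZ hwM, rfl⟩
      obtain ⟨a, ha, hwa⟩ := c₀.N.2.exists_basicOpen_le ⟨_, hwO⟩ hwN
      refine ⟨φ a, Ideal.mem_map_of_mem _ (Ideal.subset_span ha), ?_⟩
      rw [show φ a = (q f c₀.K).appLE c₀.N.1 M.1 hMN a from rfl, Scheme.basicOpen_appLE]
      exact ⟨hwM, hwa⟩
    obtain ⟨m, hm⟩ := hrad
    obtain ⟨σ, hσ, hσm⟩ := Submodule.mem_span_finite_of_mem_span
      (show φ g.T ^ m ∈ Ideal.span (φ '' (𝔠 : Set c₀.A)) from hm)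
    obtain ⟨σ', hσ', rfl⟩ := Finset.subset_set_image_iff.1 hσ
    obtain ⟨d, hd, hdvd⟩ := exists_chart_dvd g σ' (m + 1)
      fun a ha => exists_dvd_of_not g 𝔠 hne a (hσ' ha) (m + 1)
    obtain ⟨M', hM'M, hM'N, hxM'⟩ := exists_chartX x hz d (Adm.tr (pull_mono f hd.le) ⁻¹ᵁ M.1)
      (mem_preimage_of _ ((hx hd.le).symm ▸ hxM))
    let ψ := ((q f d.K).appLE d.N.1 M'.1 hM'N).hom
    let τ := ((Adm.tr (pull_mono f hd.le)).appLE M.1 M'.1 hM'M).hom
    have hτ : ∀ a, τ (φ a) = ψ (Pt.Chart.hom hd a) := fun a =>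
      (appLE_tr_q hd M.1 hMN M'.1 hM'N hM'M a).symm
    have hmem : ψ (g.T' hd) ^ m ∈ Ideal.span {ψ (g.T' hd) ^ (m + 1)} := by
      have h1 := Ideal.mem_map_of_mem τ hσm
      rw [map_pow, hτ, Ideal.map_span] at h1
      refine Ideal.span_le.2 ?_ h1
      rintro _ ⟨_, hb, rfl⟩
      obtain ⟨a, ha, rfl⟩ := Finset.mem_image.1 hb
      rw [hτ, SetLike.mem_coe, Ideal.mem_span_singleton, ← map_pow]
      exact map_dvd ψ (hdvd a ha)
    obtain ⟨r, hr⟩ := Ideal.mem_span_singleton.1 hmem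
    refine not_isUnit_t g hU ?_
    rw [← g.sec_T' hd]
    exact not_isUnit_X x hz d M' hM'N hxM' _ (isUnit_of_pow_eq (T'_nzd_X g hd M' hM'N) hr)
  let θ := (algebraMap z.Ring g.R').comp c₀.sec
  obtain ⟨a, ha, hap⟩ : ∃ a, c₀.K.obj.basicOpen a ≤ O ∧ θ a ∉ p.asIdeal := by
    by_contra hne
    push Not at hne
    have h1 : 𝔠.map c₀.sec ≤ p.asIdeal.comap (algebraMap z.Ring g.R') := by
      rw [Ideal.map_le_iff_le_comap, Ideal.span_le]
      exact fun a ha => hne a ha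
    exact p.2.ne_top (Ideal.eq_top_of_isUnit_mem _
      ((Ideal.IsPrime.comap (algebraMap z.Ring g.R')).radical.le (Ideal.radical_mono h1 ht))
      (IsLocalization.Away.algebraMap_isUnit g.t))
  let w := c₀.N.2.fromSpec (Spec.map (CommRingCat.ofHom θ) p)
  have hw : w ∈ O := ha ((mem_basicOpen_fromSpec c₀.N.2 θ p a).2 hap)
  obtain ⟨v, hv, hvw⟩ := hw
  have e : (c₀.K.π ∣_ U) v = u₀ g p := by
    refine restrict_eq _ _ v _ ?_
    exact (congrArg c₀.K.π hvw).trans (congrArg (fun φ => φ p) (u₀_ι g)).symm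
  show sec' f (u₀ g p) ∈ Zj.1
  rw [← e]
  exact hv

omit [Nonempty (Adm U)] in
/-- The ring map on the part over `U` agrees with the projection to `X`. -/
theorem theta_pull (g : z.Gen) (Zj : X.affineOpens) {d : z.Chart} (h0d : g.chart.Le d)
    {θ : Γ(X, Zj.1) →+* Γ(d.K.obj, d.K.obj.basicOpen (g.T' h0d))}
    {v : Spec Γ(d.K.obj, d.K.obj.basicOpen (g.T' h0d)) ⟶ (U : Scheme.{u})}
    (hv : v ≫ U.ι = (d.N.2.basicOpen _).fromSpec ≫ d.K.π)
    (hθ : Spec.map (CommRingCat.ofHom θ) ≫ Zj.2.fromSpec = v ≫ sec' f)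
    (MD : (pull f d.K).obj.affineOpens) (e : MD.1 ≤ q f d.K ⁻¹ᵁ d.K.obj.basicOpen (g.T' h0d))
    (eZ : MD.1 ≤ (pull f d.K).π ⁻¹ᵁ Zj.1) :
    ((q f d.K).appLE _ MD.1 e).hom.comp θ = ((pull f d.K).π.appLE Zj.1 MD.1 eZ).hom := by
  haveI := Zj.2.isOpenImmersion_fromSpec
  refine specMap_hom_ext (j := Zj.2.fromSpec) ?_
  rw [CommRingCat.ofHom_comp, Spec.map_comp, Category.assoc, hθ, CommRingCat.ofHom_hom,
    CommRingCat.ofHom_hom, IsAffineOpen.SpecMap_appLE_fromSpec _ Zj.2 MD.2 eZ]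
  refine ((eq_comp_sec' f (MD.2.fromSpec ≫ (pull f d.K).π)
    (Spec.map ((q f d.K).appLE _ MD.1 e) ≫ v) ?_).trans (Category.assoc _ _ _)).symm
  rw [Category.assoc, Category.assoc, hv,
    IsAffineOpen.SpecMap_appLE_fromSpec_assoc (q f d.K) (d.N.2.basicOpen _) MD.2 e, q_π]

/-- The values of the point over `U` on that affine open are integral. -/
theorem φ_integral [CompactSpace S] [QuasiSeparatedSpace S]
    (hx : ∀ {K P : Adm U} (h : K ≤ P), Adm.tr (pull_mono f h) (x P) = x K)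
    (hz : ∀ K, q f K (x K) = z.x K) (g : z.Gen) (Zj : X.affineOpens)
    (hZj : (pull f g.K).π (x g.K) ∈ Zj.1) (φ : Γ(X, Zj.1) →+* g.R')
    (hφ : Spec.map (CommRingCat.ofHom φ) ≫ Zj.2.fromSpec = u₀ g ≫ sec' f) (y : Γ(X, Zj.1)) :
    φ y ∈ Set.range (algebraMap z.Ring g.R') := by
  classical
  by_contra hy
  obtain ⟨n, r, hr⟩ := IsLocalization.Away.surj g.t (φ y)
  have hu : IsUnit (algebraMap z.Ring g.R' g.t ^ n) := (IsLocalization.Away.algebraMap_isUnit g.t).pow n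
  obtain ⟨a, ha⟩ : r ∣ g.t ^ n := by
    refine (dvd_pow_or_pow_dvd g.isAdmPrincipal r n).resolve_right ?_
    rintro ⟨b, rfl⟩
    refine hy ⟨b, hu.mul_left_inj.1 ?_⟩
    rw [hr, map_mul, map_pow, mul_comm]
  have hay : algebraMap z.Ring g.R' a * φ y = 1 := by
    refine hu.mul_left_inj.1 ?_
    rw [one_mul, mul_assoc, hr, ← map_mul, mul_comm a r, ← ha, map_pow]
  have haU : ¬ IsUnit a := fun h => by
    obtain ⟨b, hb⟩ := isUnit_iff_exists_inv.1 h
    refine hy ⟨b, ?_⟩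
    have := congrArg (algebraMap z.Ring g.R') hb
    rw [map_mul, map_one] at this
    calc algebraMap z.Ring g.R' b = algebraMap z.Ring g.R' b * (algebraMap z.Ring g.R' a * φ y) := by
          rw [hay, mul_one]
      _ = φ y := by rw [← mul_assoc, mul_comm _ (algebraMap z.Ring g.R' a), this, one_mul]
  obtain ⟨c, h0c, hgood⟩ := exists_good z g Zj φ hφ
  obtain ⟨d, hcd, A, hA⟩ := Pt.Chart.exists_rep c a
  have h0d := Pt.Chart.le_trans h0c hcd
  obtain ⟨θ, v, hv, hθ⟩ := exists_theta z g Zj d h0d (hgood d hcd h0d)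
  let T := g.T' h0d
  haveI := d.N.2.isLocalization_basicOpen T
  let secT : Γ(d.K.obj, d.K.obj.basicOpen T) →+* g.R' :=
    IsLocalization.Away.lift T (g := (algebraMap z.Ring g.R').comp d.sec) (by
      rw [RingHom.comp_apply, g.sec_T']
      exact IsLocalization.Away.algebraMap_isUnit g.t)
  let res := (d.K.obj.presheaf.map (homOfLE (d.K.obj.basicOpen_le T)).op).hom
  have hsecT : ∀ b, secT (res b) = algebraMap z.Ring g.R' (d.sec b) := fun b =>
    IsLocalization.Away.lift_eq (S := Γ(d.K.obj, d.K.obj.basicOpen T)) T _ b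
  have hθφ := theta_sec z g Zj hφ h0d hv hθ secT hsecT
  obtain ⟨k, u, hu'⟩ := IsLocalization.Away.surj T (res A * θ y - 1)
  have hu0 : d.sec u = 0 := by
    refine IsLocalization.injective g.R' (M := Submonoid.powers g.t)
      (Submonoid.powers_le.mpr g.t_mem_nonZeroDivisors) ?_
    rw [map_zero, ← hsecT]
    have h2 := congrArg secT hu'
    rw [map_mul, map_sub, map_mul, map_one, hsecT, hA, ← RingHom.comp_apply secT, hθφ, hay, sub_self,
      zero_mul] at h2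
    exact h2.symm
  obtain ⟨d', hdd', hd'⟩ := Pt.Chart.exists_hom_eq_zero hu0
  -- pull back to the blow-up of `X`
  have hxZ : x d'.K ∈ Adm.tr (pull_mono f (h0d.le.trans hdd'.le)) ⁻¹ᵁ ((pull f g.K).π ⁻¹ᵁ Zj.1) :=
    mem_preimage_of _ ((hx (h0d.le.trans hdd'.le)).symm ▸ hZj)
  obtain ⟨M, hMZ, hMN, hxM⟩ := exists_chartX x hz d'
    (Adm.tr (pull_mono f (h0d.le.trans hdd'.le)) ⁻¹ᵁ ((pull f g.K).π ⁻¹ᵁ Zj.1)) hxZ
  have hMZ' : M.1 ≤ (pull f d'.K).π ⁻¹ᵁ Zj.1 :=
    Pt.preimage_comp_le (Adm.tr_π (pull_mono f (h0d.le.trans hdd'.le))) le_rfl hMZ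
  obtain ⟨θ', v', hv', hθ'⟩ := exists_theta z g Zj d' (Pt.Chart.le_trans h0d hdd')
    (hgood d' (Pt.Chart.le_trans hcd hdd') _)
  let T' := g.T' (Pt.Chart.le_trans h0d hdd')
  have hTT : Pt.Chart.hom hdd' T = T' := g.T'_hom _ _
  have hDle : d'.K.obj.basicOpen T' ≤ Adm.tr hdd'.le ⁻¹ᵁ d.K.obj.basicOpen T := by
    rw [← hTT, show Pt.Chart.hom hdd' T = (Adm.tr hdd'.le).appLE d.N.1 d'.N.1 hdd'.sub T from rfl,
      Scheme.basicOpen_appLE]
    exact inf_le_right
  have hnat := theta_natural z g Zj hdd' _ _ hv hθ hv' hθ' hDle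
  let ρD := ((Adm.tr hdd'.le).appLE (d.K.obj.basicOpen T) (d'.K.obj.basicOpen T') hDle).hom
  let res' := (d'.K.obj.presheaf.map (homOfLE (d'.K.obj.basicOpen_le T')).op).hom
  have hcomm : ∀ b, ρD (res b) = res' (Pt.Chart.hom hdd' b) := by
    intro b
    simp only [ρD, res, res', Pt.Chart.hom, ← CommRingCat.comp_apply, Scheme.Hom.map_appLE,
      Scheme.Hom.appLE_map]
  have h2 := congrArg ρD hu'
  erw [map_mul, map_pow, hcomm, hcomm, hd', map_zero, hTT] at h2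
  have hunit : IsUnit (res' T') := RingedSpace.isUnit_res_basicOpen _ T'
  rw [(hunit.pow k).mul_left_eq_zero, map_sub, map_mul, hcomm, map_one, sub_eq_zero,
    ← RingHom.comp_apply ρD, hnat] at h2
  -- the equation on the part over `U` of the affine open upstairs
  let Q := ((q f d'.K).appLE d'.N.1 M.1 hMN).hom
  let MD : (pull f d'.K).obj.affineOpens := ⟨(pull f d'.K).obj.basicOpen (Q T'), M.2.basicOpen _⟩
  have eD : MD.1 ≤ q f d'.K ⁻¹ᵁ d'.K.obj.basicOpen T' := by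
    show (pull f d'.K).obj.basicOpen (Q T') ≤ _
    rw [show Q T' = (q f d'.K).appLE d'.N.1 M.1 hMN T' from rfl, Scheme.basicOpen_appLE]
    exact inf_le_right
  have eZ : MD.1 ≤ (pull f d'.K).π ⁻¹ᵁ Zj.1 := ((pull f d'.K).obj.basicOpen_le _).trans hMZ'
  have h3 := congrArg ((q f d'.K).appLE (d'.K.obj.basicOpen T') MD.1 eD).hom h2
  rw [map_mul, map_one, ← RingHom.comp_apply _ θ', theta_pull g Zj _ hv' hθ' MD eD eZ] at h3
  let resM := ((pull f d'.K).obj.presheaf.map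
    (homOfLE ((pull f d'.K).obj.basicOpen_le (Q T'))).op).hom
  haveI := M.2.isLocalization_basicOpen (Q T')
  have hresM : Function.Injective resM :=
    IsLocalization.injective Γ((pull f d'.K).obj, (pull f d'.K).obj.basicOpen (Q T'))
      (M := Submonoid.powers (Q T')) (Submonoid.powers_le.mpr (T'_nzd_X g _ M hMN))
  have h4 : Q (Pt.Chart.hom hdd' A) * (pull f d'.K).π.appLE Zj.1 M.1 hMZ' y = 1 := by
    refine hresM ?_
    rw [map_mul, map_one]
    simp only [resM, Q, res', ← CommRingCat.comp_apply, Scheme.Hom.map_appLE,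
      Scheme.Hom.appLE_map] at h3 ⊢
    exact h3
  refine haU ?_
  rw [← hA, ← Pt.Chart.sec_hom hdd']
  exact not_isUnit_X x hz d' M hMN hxM _ (IsUnit.of_mul_eq_one _ h4)

/-- At a compatible system of points the section extends. -/
theorem exists_good_point [CompactSpace S] [QuasiSeparatedSpace S] [LocallyOfFiniteType f]
    (hx : ∀ {K P : Adm U} (h : K ≤ P), Adm.tr (pull_mono f h) (x P) = x K)
    (hz : ∀ K, q f K (x K) = z.x K) : ∃ K : Adm U, z.x K ∈ good' f K := by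
  classical
  obtain ⟨K₀⟩ := (inferInstance : Nonempty (Adm U))
  by_cases hU : K₀.π (z.x K₀) ∈ U
  · exact ⟨K₀, _, _, hU, ext_preimage (sec'_topHom f) K₀⟩
  let x₀ := (pull f K₀).π (x K₀)
  obtain ⟨Wa, -, hwWa⟩ := exists_affine_le (O := (⊤ : S.Opens)) (y := f x₀) trivial
  obtain ⟨Zj, hZjW, hxZ⟩ := exists_affine_le (O := f ⁻¹ᵁ Wa.1) (y := x₀) (mem_preimage_of _ hwWa)
  obtain ⟨g, hgK, hgN⟩ := exists_gen_le z (K := K₀) (O := K₀.π ⁻¹ᵁ Wa.1)
    (mem_preimage_of _ (show K₀.π (z.x K₀) ∈ Wa.1 by rw [← hz, π_q_apply]; exact hwWa))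
  have hgW : g.N.1 ≤ g.K.π ⁻¹ᵁ Wa.1 := fun w hw => by
    obtain ⟨v, hv, hvw⟩ := hgN w hw
    show g.K.π w ∈ Wa.1
    rw [← hvw]
    exact hv
  subst hgK
  obtain ⟨φ, hφ⟩ := exists_hom_of_range_le Zj.2 (u₀ g ≫ sec' f) (u₀_mem x hx hz g hU Zj hxZ)
  obtain ⟨K, N, h, hN, hE⟩ := exists_ext_of_center z (sec'_topHom f) g Wa hgW Zj
    (by rw [topHom_ι]; exact hZjW) φ hφ (φ_integral x hx hz g Zj hxZ φ hφ)
  exact ⟨K, N, h, hN, hE⟩

omit [Nonempty (Adm U)] in
/-- If all points are good, the map of blow-ups is an open immersion. -/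
theorem isOpenImmersion_q [IsSeparated f] (K : Adm U) (hgood : ∀ y, q f K y ∈ good' f K) :
    IsOpenImmersion (q f K) := by
  let G : K.obj.Opens := ⟨good' f K, isOpen_good K⟩
  have hr : Set.range (q f K) ⊆ Set.range G.ι := by
    rintro _ ⟨y, rfl⟩
    rw [Scheme.Opens.range_ι]
    exact hgood y
  let q' := IsOpenImmersion.lift G.ι (q f K) hr
  have hq' : q' ≫ G.ι = q f K := IsOpenImmersion.lift_fac _ _ _
  suffices IsIso q' by rw [← hq']; infer_instance
  choose N h hN hE using fun w : G => w.2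
  refine (IsZariskiLocalAtTarget.iff_of_iSup_eq_top (P := MorphismProperty.isomorphisms Scheme)
    (fun w : G => G.ι ⁻¹ᵁ N w) (eq_top_iff.2 fun w _ => Opens.mem_iSup.2 ⟨w, hN w⟩)).2 fun (w : G) => ?_
  show IsIso (q' ∣_ (G.ι ⁻¹ᵁ N w))
  let O := G.ι ⁻¹ᵁ N w
  let m : O.toScheme ⟶ X := G.ι.resLE (N w) O le_rfl ≫ h w
  have hm : m ≫ f = O.ι ≫ G.ι ≫ K.π := by
    have := (hE w).comp_eq
    rw [topHom_ι] at this
    simp only [m, Category.assoc, this, Scheme.Hom.resLE_comp_ι_assoc]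
  haveI := ModPairLib.isSchemeTheoreticallyDominant_interior K.isBlowUp.1
  haveI := ModPairLib.isAffineHom_interior (ModPairLib.isLocPrincipal_of_isEffCartier K.isBlowUp.1)
  have hcart : BlowUp.IsEffCartierIdeal ((pull f K).1.comap m) := by
    show BlowUp.IsEffCartierIdeal ((K.1.comap f).comap m)
    rw [← IdealSheafData.comap_comp, hm, ← Category.assoc, IdealSheafData.comap_comp]
    haveI : IsSchemeTheoreticallyDominant ((O.ι ≫ G.ι) ⁻¹ᵁ ModPair.interior (K.1.comap K.π)).ι :=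
      IsSchemeTheoreticallyDominant.of_isPullback
        (isPullback_morphismRestrict (O.ι ≫ G.ι) (ModPair.interior (K.1.comap K.π))).flip.flip
    exact (ModPairLib.comap_preimage_dense _ K.isBlowUp.1 (O.ι ≫ G.ι)).2
  obtain ⟨k, hk, -⟩ := (pull f K).isBlowUp.2 O.toScheme m hcart
  have hk₁ : k ≫ q f K = O.ι ≫ G.ι := by
    refine eq_of_isBlowUp K.isBlowUp (g := m ≫ f)
      (by rw [IdealSheafData.comap_comp]; exact hcart) ?_ ?_
    · rw [Category.assoc, q_π, reassoc_of% hk]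
    · rw [Category.assoc, hm]
  have hkr : Set.range k ⊆ Set.range (q' ⁻¹ᵁ O).ι := by
    rintro _ ⟨p, rfl⟩
    rw [Scheme.Opens.range_ι]
    have e : k ≫ q' = O.ι := by rw [← cancel_mono G.ι, Category.assoc, hq', hk₁]
    show q' (k p) ∈ O
    rw [← Scheme.Hom.comp_apply, e]
    exact p.2
  let k' := IsOpenImmersion.lift (q' ⁻¹ᵁ O).ι k hkr
  have hk' : k' ≫ (q' ⁻¹ᵁ O).ι = k := IsOpenImmersion.lift_fac _ _ _
  refine ⟨k', ?_, ?_⟩
  · rw [← cancel_mono (q' ⁻¹ᵁ O).ι, Category.assoc, hk', Category.id_comp]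
    let i := (q' ⁻¹ᵁ O).ι
    have e1 : (q' ∣_ O) ≫ O.ι ≫ G.ι = i ≫ q f K := by
      rw [morphismRestrict_ι_assoc, hq']
    have e2 : ((q' ∣_ O) ≫ m) ≫ f = (i ≫ (pull f K).π) ≫ f := by
      rw [Category.assoc, hm, reassoc_of% e1, q_π, Category.assoc]
    haveI : IsSchemeTheoreticallyDominant (i ⁻¹ᵁ ((pull f K).π ⁻¹ᵁ (f ⁻¹ᵁ U))).ι :=
      IsSchemeTheoreticallyDominant.of_isPullback (isPullback_morphismRestrict i _).flip.flip
    have hc : BlowUp.IsEffCartierIdeal ((pull f K).1.comap (i ≫ (pull f K).π)) := by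
      rw [IdealSheafData.comap_comp]
      haveI : IsSchemeTheoreticallyDominant
          (i ⁻¹ᵁ ModPair.interior ((pull f K).1.comap (pull f K).π)).ι := by
        rw [← (pull f K).preimage_eq _ rfl]; infer_instance
      exact (ModPairLib.comap_preimage_dense _ (pull f K).isBlowUp.1 i).2
    refine eq_of_isBlowUp (pull f K).isBlowUp hc ?_ rfl
    rw [Category.assoc, hk]
    let w' := (i ⁻¹ᵁ ((pull f K).π ⁻¹ᵁ (f ⁻¹ᵁ U))).ι
    have hr' : Set.range (w' ≫ i ≫ (pull f K).π ≫ f) ⊆ Set.range U.ι := by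
      rintro _ ⟨p, rfl⟩
      rw [Scheme.Opens.range_ι]
      exact p.2
    let v := IsOpenImmersion.lift U.ι (w' ≫ i ≫ (pull f K).π ≫ f) hr'
    have hv : v ≫ U.ι = w' ≫ i ≫ (pull f K).π ≫ f := IsOpenImmersion.lift_fac _ _ _
    refine hom_ext_dense w' f e2 ?_
    rw [eq_comp_sec' f (w' ≫ (q' ∣_ O) ≫ m) v (by rw [hv]; simp only [Category.assoc] at e2 ⊢; rw [e2]),
      eq_comp_sec' f (w' ≫ i ≫ (pull f K).π) v (by rw [hv]; simp only [Category.assoc])]
  · rw [← cancel_mono O.ι, Category.assoc, morphismRestrict_ι, reassoc_of% hk',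
      ← cancel_mono G.ι, Category.assoc, Category.assoc, hq', hk₁, Category.id_comp]

omit [IsIso (f ∣_ U)] [Nonempty (Adm U)] in
variable (f) in
/-- All points become good after an admissible blow-up of the target. -/
theorem exists_all_good [CompactSpace S] [QuasiSeparatedSpace S]
    [QuasiCompact f] [IsSeparated f] [LocallyOfFiniteType f] (hU : IsCompact (U : Set S))
    [IsIso (f ∣_ U)] : ∃ K : Adm U, ∀ y, q f K y ∈ good' f K := by
  haveI : Nonempty (Adm U) := Adm.nonempty hU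
  haveI : CompactSpace X := QuasiCompact.compactSpace_of_compactSpace f
  haveI : QuasiSeparatedSpace X := quasiSeparatedSpace_of_quasiSeparated f
  by_contra hne
  push Not at hne
  obtain ⟨x, hx, hxB⟩ := exists_compatible f hne
  let z : Pt U := ⟨fun K => q f K (x K), fun {K P} h => by
    rw [← q_tr_apply f h (x P), hx h]⟩
  obtain ⟨K, hK⟩ := exists_good_point (z := z) x hx (fun _ => rfl)
  exact hxB K hK

omit [IsIso (f ∣_ U)] [Nonempty (Adm U)] in
variable (f) in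
/-- A separated morphism of finite type which is an isomorphism over `U` becomes an open immersion
after an admissible blow-up of the target. -/
theorem exists_isOpenImmersion [CompactSpace S] [QuasiSeparatedSpace S] [IsSeparated f]
    [QuasiCompact f] [LocallyOfFiniteType f] (hU : IsCompact (U : Set S)) [IsIso (f ∣_ U)] :
    ∃ K : Adm U, IsOpenImmersion (q f K) := by
  obtain ⟨K, hK⟩ := exists_all_good f hU
  exact ⟨K, isOpenImmersion_q K hK⟩

omit [Nonempty (Adm U)] in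
theorem good'_mono [Nonempty (Adm U)] {K P : Adm U} (h : K ≤ P) (hK : ∀ y, q f K y ∈ good' f K)
    (y : (pull f P).obj) : q f P y ∈ good' f P := by
  by_contra hy
  exact notMem_good' f h y hy (hK _)

/-- Finite type on the image of an open immersion. -/
theorem fgOn_map {A B : Scheme.{u}} (j : A ⟶ B) [IsOpenImmersion j] [QuasiCompact j]
    {J : A.IdealSheafData} (hJ : BlowUp.IsFiniteTypeIdeal J) :
    MorLib.IdealFG.FGOn (J.map j) j.opensRange := fun V hV => by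
  let V₀ := j ⁻¹ᵁ V.1
  have hV₀ : j ''ᵁ V₀ = V.1 := by
    rw [Scheme.Hom.image_preimage_eq_opensRange_inf]
    exact inf_eq_right.mpr hV
  have hVa : IsAffineOpen V₀ := by
    rw [← Scheme.Hom.isAffineOpen_iff_of_isOpenImmersion j, hV₀]; exact V.2
  have h1 := hJ ⟨V₀, hVa⟩
  rw [← MorLib.IdealFG.comap_map_self j J, IdealSheafData.ideal_comap_of_isOpenImmersion] at h1
  have hs : Function.Surjective (j.appIso V₀).inv.hom :=
    (j.appIso V₀).commRingCatIsoToRingEquiv.symm.surjective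
  have h2 := h1.map (j.appIso V₀).inv.hom
  rw [Ideal.map_comap_of_surjective _ hs] at h2
  exact MorLib.IdealFG.fg_congr (U := ⟨j ''ᵁ V₀, hVa.image_of_isOpenImmersion _⟩) (U' := V) hV₀ h2

omit [Nonempty (Adm U)] in
theorem preimage_le_range (K : Adm U) (w : K.obj) (hw : K.π w ∈ U) : ∃ y, q f K y = w := by
  haveI := (pull f K).isIso_restrict
  haveI := K.isIso_restrict
  let u : (U : Scheme.{u}) := ⟨K.π w, hw⟩
  let x₀ : X := sec' f u
  have hx₀ : f x₀ = K.π w := by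
    show f (sec' f u) = _
    rw [← Scheme.Hom.comp_apply, sec'_f]; rfl
  let y := (inv ((pull f K).π ∣_ (f ⁻¹ᵁ U))) ⟨x₀, mem_preimage_of f (hx₀ ▸ hw)⟩
  have hy : (pull f K).π y.1 = x₀ := by
    have e := congrArg (fun φ => φ ⟨x₀, mem_preimage_of f (hx₀ ▸ hw)⟩)
      (IsIso.inv_hom_id ((pull f K).π ∣_ (f ⁻¹ᵁ U)))
    have e2 := congrArg (fun φ => φ y) (morphismRestrict_ι (pull f K).π (f ⁻¹ᵁ U))
    exact e2.symm.trans (congrArg Subtype.val e)
  refine ⟨y.1, ?_⟩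
  have hinj : Function.Injective (K.π ∣_ U) := (asIso (K.π ∣_ U)).schemeIsoToHomeo.injective
  have hyU : K.π (q f K y.1) ∈ U := by rw [π_q_apply, hy, hx₀]; exact hw
  have := hinj (a₁ := ⟨q f K y.1, hyU⟩) (a₂ := ⟨w, hw⟩) ((restrict_eq _ _ ⟨q f K y.1, hyU⟩ u (by
    show K.π (q f K y.1) = K.π w
    rw [π_q_apply, hy, hx₀])).trans (restrict_eq _ _ ⟨w, hw⟩ u rfl).symm)
  exact congrArg Subtype.val this

omit [IsIso (f ∣_ U)] [Nonempty (Adm U)] in
theorem comap_π_eq' (M : S.IdealSheafData) (P : Adm U) :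
    (M.comap f).comap (pull f P).π = (M.comap P.π).comap (q f P) := by
  rw [← IdealSheafData.comap_comp, ← IdealSheafData.comap_comp, q_π]

theorem comap_pow_eq {A B : Scheme.{u}} (g : A ⟶ B) (I : B.IdealSheafData) (n : ℕ) :
    (I.comap g) ^ n = (I ^ n).comap g := by
  induction n with
  | zero => simp [pow_zero, IdealSheafData.one_eq_top, IdealSheafData.comap_top]
  | succ n ih => rw [pow_succ, pow_succ, ModPairLib.ideal_comap_mul, ih]

omit [Nonempty (Adm U)] in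
/-- An ideal on the source which is trivial over `U` comes, up to the exceptional divisor, from a
further admissible blow-up of the target. -/
theorem exists_dom [CompactSpace S] [QuasiSeparatedSpace S] [CompactSpace X] [IsSeparated f]
    (K : Adm U) (hK : ∀ y, q f K y ∈ good' f K) (I : X.IdealSheafData)
    (hI : BlowUp.IsFiniteTypeIdeal I) (hIU : ∀ w, f w ∈ U → w ∉ (I.support : Set X)) :
    ∃ (P : Adm U) (n : ℕ), K ≤ P ∧
      (P.1.comap f).comap (pull f K).π =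
        I.comap (pull f K).π * ((K.1.comap f).comap (pull f K).π) ^ n := by
  haveI := isOpenImmersion_q K hK
  haveI : CompactSpace (pull f K).obj := QuasiCompact.compactSpace_of_compactSpace (pull f K).π
  haveI : QuasiCompact (q f K) := quasiCompact_of_compactSpace _
  let J := I.comap (pull f K).π
  have hJ : BlowUp.IsFiniteTypeIdeal J := MorLib.IdealFG.isFG_comap hI _
  obtain ⟨L, -, hLft, hLO⟩ := BlowSep.exists_ft_eq_on (J.map (q f K)) (q f K).opensRange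
    (by rw [Scheme.Hom.coe_opensRange]; exact isCompact_range (q f K).continuous)
    (fgOn_map (q f K) hJ)
  have hLJ : L.comap (q f K) = J := by
    have e : IsOpenImmersion.lift (q f K).opensRange.ι (q f K) (by
        rw [Scheme.Opens.range_ι]; exact le_refl _) ≫ (q f K).opensRange.ι = q f K :=
      IsOpenImmersion.lift_fac _ _ _
    calc L.comap (q f K) = (J.map (q f K)).comap (q f K) := by
          rw [← e, IdealSheafData.comap_comp, IdealSheafData.comap_comp, hLO]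
          rw [e]
      _ = J := MorLib.IdealFG.comap_map_self (q f K) J
  have hLU : ∀ w, K.π w ∈ U → w ∉ (L.support : Set K.obj) := fun w hw hwL => by
    obtain ⟨y, rfl⟩ := preimage_le_range (f := f) K w hw
    have h1 : y ∈ ((L.comap (q f K)).support : Set (pull f K).obj) := by
      rw [IdealSheafData.support_comap]; exact hwL
    rw [hLJ, IdealSheafData.support_comap] at h1
    exact hIU _ (by rw [← π_q_apply]; exact hw) h1
  obtain ⟨m, M, hMft, hM⟩ := BlowSep.Compose.exists_comap_eq_mul_pow K.π K.1 L K.2.1 K.isBlowUp hLft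
  have hMU : (M.support : Set S) ⊆ (U : Set S)ᶜ := fun w hw hwU => by
    obtain ⟨y, hy⟩ : ∃ y : K.obj, K.π y = w := by
      haveI := K.isIso_restrict
      obtain ⟨y, hy⟩ := (asIso (K.π ∣_ U)).schemeIsoToHomeo.surjective ⟨w, hwU⟩
      exact ⟨y.1, (congrArg (fun φ => φ y) (morphismRestrict_ι K.π U)).symm.trans
        (congrArg Subtype.val hy)⟩
    have h1 : y ∈ ((M.comap K.π).support : Set K.obj) := by
      rw [IdealSheafData.support_comap]
      show K.π y ∈ (M.support : Set S)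
      rw [hy]; exact hw
    rw [hM, IdealSheafData.support_mul] at h1
    rcases h1 with h1 | h1
    · exact hLU y (hy.symm ▸ hwU) h1
    · rcases Nat.eq_zero_or_pos m with rfl | hm
      · rw [pow_zero, IdealSheafData.one_eq_top, IdealSheafData.support_top] at h1
        exact h1
      · rw [IdealSheafData.support_pow _ _ hm.ne', IdealSheafData.support_comap] at h1
        have h3 : K.π y ∈ (K.1.support : Set S) := h1
        rw [K.2.2] at h3
        exact h3 (hy.symm ▸ hwU)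
  let P : Adm U := ⟨K.1 * M, fun V => by
      rw [IdealSheafData.ideal_mul, Pi.mul_apply]; exact (K.2.1 V).mul (hMft V), by
      rw [IdealSheafData.support_mul]
      show (K.1.support : Set S) ∪ (M.support : Set S) = _
      rw [K.2.2]
      exact Set.union_eq_left.2 hMU⟩
  refine ⟨P, m + 1, Adm.dom_of_mul P rfl, ?_⟩
  show ((K.1 * M).comap f).comap (pull f K).π = _
  rw [ModPairLib.ideal_comap_mul, ModPairLib.ideal_comap_mul, comap_π_eq K K, comap_π_eq' M K, hM,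
    ModPairLib.ideal_comap_mul, hLJ, ← comap_pow_eq, ← comap_π_eq K K, pow_succ']
  exact mul_left_comm _ _ _

end Groth.Agent.ZRLim.Bir
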