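import Mathlib

/-!
# Local rings all of whose finitely generated ideals containing a power of `t` are principal

Such a ring is the preimage in the local ring `R[1/t]` of a valuation ring of its residue field.
-/

universe u

set_option autoImplicit false

namespace Groth.Agent.ZRLim

variable {R : Type u} [CommRing R] [IsLocalRing R]

/-- Finitely generated ideals containing a power of `t` are principal. -/
def IsAdmPrincipal (t : R) : Prop :=
  ∀ (a b : R) (n : ℕ), ∃ c : R, Ideal.span {a, b, t ^ n} = Ideal.span {c}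

theorem dvd_or_dvd_of_span_eq {a b c : R} (h : Ideal.span {a, b} = Ideal.span {c}) : a ∣ b ∨ b ∣ a := by
  have ha : a ∈ Ideal.span {c} := h ▸ Ideal.subset_span (Set.mem_insert a {b})
  have hb : b ∈ Ideal.span {c} := h ▸ Ideal.subset_span (Set.mem_insert_of_mem a rfl)
  obtain ⟨r, rfl⟩ := Ideal.mem_span_singleton'.1 ha
  obtain ⟨s, rfl⟩ := Ideal.mem_span_singleton'.1 hb
  obtain ⟨p, q, hpq⟩ := Ideal.mem_span_pair.1 (h.ge (Ideal.mem_span_singleton_self c))
  by_cases hr : IsUnit r
  · exact Or.inl (mul_dvd_mul_right (hr.dvd) c)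
  by_cases hs : IsUnit s
  · exact Or.inr (mul_dvd_mul_right (hs.dvd) c)
  have hne : p * r + q * s ∈ IsLocalRing.maximalIdeal R :=
    Ideal.add_mem _ (Ideal.mul_mem_left _ _ ((IsLocalRing.mem_maximalIdeal r).2 hr))
      (Ideal.mul_mem_left _ _ ((IsLocalRing.mem_maximalIdeal s).2 hs))
  have hu : IsUnit (1 - (p * r + q * s)) := by
    by_contra hne'
    exact (IsLocalRing.maximalIdeal.isMaximal R).ne_top ((Ideal.eq_top_iff_one _).2
      (by simpa using Ideal.add_mem _ hne ((IsLocalRing.mem_maximalIdeal _).2 hne')))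
  have h0 : (1 - (p * r + q * s)) * c = 0 := by linear_combination -hpq
  rw [hu.mul_right_eq_zero] at h0
  exact Or.inl (by simp [h0])

variable {t : R}

theorem dvd_pow_or_pow_dvd (hP : IsAdmPrincipal t) (a : R) (n : ℕ) : a ∣ t ^ n ∨ t ^ n ∣ a := by
  obtain ⟨c, hc⟩ := hP a a n
  refine dvd_or_dvd_of_span_eq (c := c) ?_
  rw [← hc, Set.insert_idem]

variable (ht : t ∈ nonZeroDivisors R) (htu : ¬ IsUnit t) (hP : IsAdmPrincipal t)

/-- The elements divisible by all powers of `t`. -/
def powInf (t : R) : Ideal R := ⨅ n : ℕ, Ideal.span {t ^ n}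

omit [IsLocalRing R] in
theorem mem_powInf {a : R} : a ∈ powInf t ↔ ∀ n, t ^ n ∣ a := by
  simp [powInf, Ideal.mem_span_singleton]

theorem exists_dvd_pow (hP : IsAdmPrincipal t) {a : R} (ha : a ∉ powInf t) : ∃ n, a ∣ t ^ n := by
  rw [mem_powInf] at ha
  push Not at ha
  obtain ⟨n, hn⟩ := ha
  exact ⟨n, (dvd_pow_or_pow_dvd hP a n).resolve_right hn⟩

include ht htu hP in
theorem isPrime_powInf : (powInf t).IsPrime := by
  refine ⟨fun h => ?_, fun {a b} hab => ?_⟩
  · have h1 : (1 : R) ∈ powInf t := h.symm ▸ Submodule.mem_top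
    have := (mem_powInf (t := t)).1 h1 1
    exact htu (pow_one t ▸ isUnit_of_dvd_one this)
  · by_contra hne
    push Not at hne
    obtain ⟨n, hn⟩ := exists_dvd_pow hP hne.1
    obtain ⟨m, hm⟩ := exists_dvd_pow hP hne.2
    have h1 := (mem_powInf.1 hab (n + m + 1)).trans (mul_dvd_mul hn hm)
    rw [← pow_add, pow_succ] at h1
    obtain ⟨r, hr⟩ := h1
    refine htu (IsUnit.of_mul_eq_one r ?_)
    exact mul_cancel_left_mem_nonZeroDivisors (pow_mem ht (n + m)) |>.1 (by rw [mul_one, ← mul_assoc, ← hr])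

include hP in
theorem valuation_dvd (x y : R ⧸ powInf t) : x ∣ y ∨ y ∣ x := by
  obtain ⟨a, rfl⟩ := Ideal.Quotient.mk_surjective x
  obtain ⟨b, rfl⟩ := Ideal.Quotient.mk_surjective y
  by_cases ha : a ∈ powInf t
  · exact Or.inr (by simp [Ideal.Quotient.eq_zero_iff_mem.2 ha])
  obtain ⟨n, hn⟩ := exists_dvd_pow hP ha
  obtain ⟨c, hc⟩ := hP a b n
  have hab : Ideal.span {a, b} = Ideal.span {c} := by
    rw [← hc]
    refine le_antisymm (Ideal.span_mono (by intro z; simp; tauto)) (Ideal.span_le.2 ?_)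
    rintro z (rfl | rfl | rfl)
    · exact Ideal.subset_span (Set.mem_insert _ _)
    · exact Ideal.subset_span (Set.mem_insert_of_mem _ rfl)
    · exact Ideal.span_mono (Set.singleton_subset_iff.2 (Set.mem_insert _ _))
        (Ideal.mem_span_singleton.2 hn)
  exact (dvd_or_dvd_of_span_eq hab).imp (map_dvd _) (map_dvd _)

/-- The data of the Zariski-Riemann point: `R[1/t]` is local, with a map to a field under which `R`
is the preimage of a valuation ring. -/
theorem exists_valuation (ht : t ∈ nonZeroDivisors R) (htu : ¬ IsUnit t) (hP : IsAdmPrincipal t) :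
    IsLocalRing (Localization.Away t) ∧
    ∃ (V : Type u) (_ : CommRing V) (_ : IsDomain V) (_ : ValuationRing V) (mk : R →+* V)
      (ρ : Localization.Away t →+* FractionRing V),
      Function.Surjective mk ∧
      (∀ a : R, ρ (algebraMap R _ a) = algebraMap V (FractionRing V) (mk a)) ∧
      IsLocalHom ρ ∧
      ∀ z : Localization.Away t, ρ z ∈ Set.range (algebraMap V (FractionRing V)) →
        z ∈ Set.range (algebraMap R (Localization.Away t)) := by
  haveI := isPrime_powInf ht htu hP
  let V := R ⧸ powInf t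
  haveI : ValuationRing V := (ValuationRing.iff_dvd_total (R := V)).2 ⟨valuation_dvd hP⟩
  let mk : R →+* V := Ideal.Quotient.mk (powInf t)
  have htV : mk t ≠ 0 := fun h => by
    have := mem_powInf.1 (Ideal.Quotient.eq_zero_iff_mem.1 h) 2
    obtain ⟨r, hr⟩ := this
    refine htu (IsUnit.of_mul_eq_one r ?_)
    exact mul_cancel_left_mem_nonZeroDivisors ht |>.1 (by rw [mul_one, ← mul_assoc, ← sq, ← hr])
  let ρ : Localization.Away t →+* FractionRing V :=
    IsLocalization.Away.lift t (g := (algebraMap V (FractionRing V)).comp mk)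
      (isUnit_iff_ne_zero.2 fun h => htV ((map_eq_zero_iff _ (IsFractionRing.injective V _)).1 h))
  have hρ : ∀ a : R, ρ (algebraMap R _ a) = algebraMap V (FractionRing V) (mk a) := fun a =>
    IsLocalization.Away.lift_eq t _ a
  have hunit : ∀ z, ρ z ≠ 0 → IsUnit z := by
    intro z hz
    obtain ⟨n, a, hza⟩ := IsLocalization.Away.surj t z
    have ha : a ∉ powInf t := fun h => by
      have := congrArg ρ hza
      rw [map_mul, map_pow, hρ, hρ, Ideal.Quotient.eq_zero_iff_mem.2 h, map_zero] at this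
      rcases mul_eq_zero.1 this with h1 | h1
      · exact hz h1
      · exact htV ((map_eq_zero_iff _ (IsFractionRing.injective V _)).1 (eq_zero_of_pow_eq_zero h1))
    obtain ⟨m, hm⟩ := exists_dvd_pow hP ha
    have hu : IsUnit (algebraMap R (Localization.Away t) a) :=
      isUnit_of_dvd_unit (map_dvd _ hm) (by
        rw [map_pow]; exact (IsLocalization.Away.algebraMap_isUnit t).pow m)
    rw [← hza] at hu
    exact isUnit_of_mul_isUnit_left hu
  haveI hloc : IsLocalHom ρ := ⟨fun z hz => hunit z hz.ne_zero⟩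
  refine ⟨RingHom.domain_isLocalRing ρ, V, inferInstance, inferInstance, inferInstance, mk, ρ,
    Ideal.Quotient.mk_surjective, hρ, hloc, ?_⟩
  rintro z ⟨v, hv⟩
  obtain ⟨v, rfl⟩ := Ideal.Quotient.mk_surjective v
  obtain ⟨n, a, hza⟩ := IsLocalization.Away.surj t z
  have h1 : mk (a - t ^ n * v) = 0 := by
    refine IsFractionRing.injective V (FractionRing V) ?_
    have := congrArg ρ hza
    rw [map_mul, map_pow, hρ, hρ] at this
    rw [map_zero, map_sub, map_sub, map_mul, map_mul, map_pow, map_pow, ← this, ← hv]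
    ring
  obtain ⟨j, hj⟩ := mem_powInf.1 (Ideal.Quotient.eq_zero_iff_mem.1 h1) n
  refine ⟨v + j, ?_⟩
  have hu : IsUnit (algebraMap R (Localization.Away t) t ^ n) :=
    (IsLocalization.Away.algebraMap_isUnit t).pow n
  refine hu.mul_left_inj.1 ?_
  rw [hza, ← map_pow, ← map_mul]
  exact congrArg _ (by linear_combination -hj)

end Groth.Agent.ZRLim
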