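import Groth.Agent.ZRLim.System
import Groth.Agent.ZRLim.Algebra
import Groth.Agent.BlowSep.Compose

/-!
# The local ring of a point of the limit of all admissible blow-ups
-/

universe u

set_option autoImplicit false
set_option linter.style.haveILetI false

open CategoryTheory CategoryTheory.Limits AlgebraicGeometry TopologicalSpace
open Scheme (IdealSheafData)
open Groth.Agent.BlowUpLib

namespace Groth.Agent.ZRLim

theorem centre_injective {B : Type u} [CommRing B] {I J : Ideal B} (h : centre I = centre J) :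
    I = J := by
  have h2 := congrArg (fun K => IdealSheafData.ideal K ⟨⊤, isAffineOpen_top _⟩) h
  simp only [centre_top] at h2
  have hb : Function.Bijective (Scheme.ΓSpecIso (CommRingCat.of B)).inv.hom :=
    ConcreteCategory.bijective_of_isIso _
  rw [← Ideal.comap_map_of_bijective _ hb (I := I), h2, Ideal.comap_map_of_bijective _ hb]

theorem exists_ideal_eq {Y : Scheme.{u}} [CompactSpace Y] [QuasiSeparatedSpace Y] (N : Y.affineOpens)
    (a : Ideal Γ(Y, N.1)) : ∃ L : Y.IdealSheafData, L.ideal N = a := by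
  let g := Spec.map (CommRingCat.ofHom (Ideal.Quotient.mk a))
  haveI := N.2.isOpenImmersion_fromSpec
  haveI : QuasiCompact N.2.fromSpec := quasiCompact_of_compactSpace _
  refine ⟨g.ker.map N.2.fromSpec, centre_injective ?_⟩
  rw [← comap_fromSpec, MorLib.IdealFG.comap_map_self, ← ExcSmooth.centre_eq_ker]

theorem exists_affine_le {Y : Scheme.{u}} {O : Y.Opens} {y : Y} (hy : y ∈ O) :
    ∃ N : Y.affineOpens, N.1 ≤ O ∧ y ∈ N.1 := by
  obtain ⟨_, ⟨N, hN, rfl⟩, hyN, hle⟩ :=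
    Y.isBasis_affineOpens.exists_subset_of_mem_open (show y ∈ (O : Set Y) from hy) O.2
  exact ⟨⟨N, hN⟩, hle, hyN⟩

theorem germ_app_id {X : Scheme.{u}} {f : X ⟶ X} (e : f = 𝟙 X) (V : X.Opens) (a : Γ(X, V))
    (x : X) (h : x ∈ f ⁻¹ᵁ V) (h' : x ∈ V) :
    X.presheaf.germ (f ⁻¹ᵁ V) x h (f.app V a) = X.presheaf.germ V x h' a := by
  subst e; rfl

theorem germ_app_comp {X Y Z : Scheme.{u}} {g : X ⟶ Y} {f : Y ⟶ Z} {k : X ⟶ Z} (e : g ≫ f = k)
    (V : Z.Opens) (a : Γ(Z, V)) (x : X) (h : x ∈ g ⁻¹ᵁ (f ⁻¹ᵁ V)) (h' : x ∈ k ⁻¹ᵁ V) :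
    X.presheaf.germ (g ⁻¹ᵁ (f ⁻¹ᵁ V)) x h (g.app (f ⁻¹ᵁ V) (f.app V a)) =
      X.presheaf.germ (k ⁻¹ᵁ V) x h' (k.app V a) := by
  subst e; rfl

variable {S : Scheme.{u}} {U : S.Opens}

variable (U) in
/-- A compatible system of points of all admissible blow-ups. -/
structure Pt where
  x : ∀ K : Adm U, K.obj
  compat : ∀ {K P : Adm U} (h : K ≤ P), Adm.tr h (x P) = x K

namespace Pt

variable (z : Pt U)

theorem π_eq (K P : Adm U) : K.π (z.x K) = P.π (z.x P) := by
  obtain ⟨Q, hK, hP⟩ := exists_ge_ge K P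
  rw [← z.compat hK, ← z.compat hP, Adm.π_tr_apply, Adm.π_tr_apply]

theorem mem_preimage {K P : Adm U} (h : K ≤ P) {V : K.obj.Opens} (hx : z.x K ∈ V) :
    z.x P ∈ Adm.tr h ⁻¹ᵁ V := by
  show Adm.tr h (z.x P) ∈ V
  rw [z.compat h]
  exact hx

/-- The local ring at a level. -/
abbrev stk (K : Adm U) : Type u := K.obj.presheaf.stalk (z.x K)

/-- The transition map. -/
noncomputable def map (K P : Adm U) (h : K ≤ P) : z.stk K →+* z.stk P :=
  (K.obj.presheaf.stalkSpecializes (specializes_of_eq (z.compat h)) ≫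
    (Adm.tr h).stalkMap (z.x P)).hom

theorem map_germ {K P : Adm U} (h : K ≤ P) (V : K.obj.Opens) (hx : z.x K ∈ V) (a : Γ(K.obj, V)) :
    z.map K P h (K.obj.presheaf.germ V (z.x K) hx a) =
      P.obj.presheaf.germ (Adm.tr h ⁻¹ᵁ V) (z.x P)
        (z.mem_preimage h hx) ((Adm.tr h).app V a) := by
  show (Adm.tr h).stalkMap (z.x P) (K.obj.presheaf.stalkSpecializes _
    (K.obj.presheaf.germ V (z.x K) hx a)) = _
  rw [TopCat.Presheaf.germ_stalkSpecializes_apply, Scheme.Hom.germ_stalkMap_apply]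

instance isLocalHom_map {K P : Adm U} (h : K ≤ P) : IsLocalHom (z.map K P h) := by
  haveI : IsIso (K.obj.presheaf.stalkSpecializes (specializes_of_eq (z.compat h))) :=
    ⟨K.obj.presheaf.stalkSpecializes (specializes_of_eq (z.compat h).symm),
      by rw [TopCat.Presheaf.stalkSpecializes_comp]; exact TopCat.Presheaf.stalkSpecializes_refl _ _,
      by rw [TopCat.Presheaf.stalkSpecializes_comp]; exact TopCat.Presheaf.stalkSpecializes_refl _ _⟩
  show IsLocalHom (((Adm.tr h).stalkMap (z.x P)).hom.comp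
    (K.obj.presheaf.stalkSpecializes (specializes_of_eq (z.compat h))).hom)
  infer_instance

instance directedSystem : DirectedSystem z.stk (fun K P h => z.map K P h) where
  map_self K a := by
    obtain ⟨V, hx, s, rfl⟩ := TopCat.Presheaf.exists_germ_eq K.obj.presheaf a
    rw [z.map_germ]
    exact germ_app_id (Adm.tr_self K) V s _ _ hx
  map_map P Q K hKP hPQ a := by
    obtain ⟨V, hx, s, rfl⟩ := TopCat.Presheaf.exists_germ_eq K.obj.presheaf a
    rw [z.map_germ, z.map_germ, z.map_germ]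
    exact germ_app_comp (Adm.tr_trans hKP hPQ) V s _ _ _

/-- The local ring at the point of the limit. -/
abbrev Ring : Type u := _root_.Ring.DirectLimit z.stk (fun K P h => z.map K P h)

/-- The canonical map from a level. -/
noncomputable def of (K : Adm U) : z.stk K →+* z.Ring :=
  _root_.Ring.DirectLimit.of z.stk (fun K P h => z.map K P h) K

theorem of_map {K P : Adm U} (h : K ≤ P) (a : z.stk K) : z.of P (z.map K P h a) = z.of K a :=
  _root_.Ring.DirectLimit.of_f h a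

theorem exists_map_eq_zero {K : Adm U} {a : z.stk K} (h : z.of K a = 0) :
    ∃ (P : Adm U) (hP : K ≤ P), z.map K P hP a = 0 :=
  _root_.Ring.DirectLimit.of.zero_exact (f' := fun K P h => z.map K P h) h

variable [Nonempty (Adm U)]

theorem exists_of (r : z.Ring) : ∃ K a, z.of K a = r := _root_.Ring.DirectLimit.exists_of r

theorem isUnit_of_iff {K : Adm U} {a : z.stk K} : IsUnit (z.of K a) ↔ IsUnit a := by
  refine ⟨fun h => ?_, fun h => h.map _⟩
  obtain ⟨b, hb⟩ := isUnit_iff_exists_inv.1 h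
  obtain ⟨L, c, rfl⟩ := z.exists_of b
  obtain ⟨P, hKP, hLP⟩ := exists_ge_ge K L
  have h0 : z.of P (z.map K P hKP a * z.map L P hLP c - 1) = 0 := by
    rw [map_sub, map_mul, z.of_map, z.of_map, hb, map_one, sub_self]
  obtain ⟨Q, hPQ, hQ⟩ := z.exists_map_eq_zero h0
  rw [map_sub, map_mul, map_one, sub_eq_zero] at hQ
  have := isUnit_of_map_unit (z.map P Q hPQ) _ (IsUnit.of_mul_eq_one _ hQ)
  exact isUnit_of_map_unit (z.map K P hKP) a this

instance nontrivial_ring : Nontrivial z.Ring := by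
  refine ⟨0, 1, fun h => ?_⟩
  let K := Classical.arbitrary (Adm U)
  have h0 : IsUnit (z.of K 0) := by rw [map_zero, h]; exact isUnit_one
  exact not_isUnit_zero (z.isUnit_of_iff.1 h0)

instance isLocalRing_ring : IsLocalRing z.Ring := by
  refine IsLocalRing.of_isUnit_or_isUnit_one_sub_self fun r => ?_
  obtain ⟨K, a, rfl⟩ := z.exists_of r
  rw [← map_one (z.of K), ← map_sub, z.isUnit_of_iff, z.isUnit_of_iff]
  exact IsLocalRing.isUnit_or_isUnit_one_sub_self a

/-- Sections over a neighbourhood at a level, as elements of the limit ring. -/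
noncomputable def sec (K : Adm U) (V : K.obj.Opens) (hx : z.x K ∈ V) : Γ(K.obj, V) →+* z.Ring :=
  (z.of K).comp (K.obj.presheaf.germ V (z.x K) hx).hom

omit [Nonempty (Adm U)] in
theorem sec_appLE {K P : Adm U} (h : K ≤ P) (V : K.obj.Opens) (hx : z.x K ∈ V) (N : P.obj.Opens)
    (e : N ≤ Adm.tr h ⁻¹ᵁ V) (hN : z.x P ∈ N) (a : Γ(K.obj, V)) :
    z.sec P N hN ((Adm.tr h).appLE V N e a) = z.sec K V hx a := by
  show z.of P (P.obj.presheaf.germ N (z.x P) hN ((Adm.tr h).appLE V N e a)) = z.of K _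
  rw [Scheme.Hom.appLE, CommRingCat.comp_apply, TopCat.Presheaf.germ_res_apply, ← z.map_germ h V hx,
    z.of_map]

omit [Nonempty (Adm U)] in
theorem sec_res {K : Adm U} {V N : K.obj.Opens} (hNV : N ≤ V) (hN : z.x K ∈ N) (a : Γ(K.obj, V)) :
    z.sec K N hN (K.obj.presheaf.map (homOfLE hNV).op a) = z.sec K V (hNV hN) a := by
  show z.of K (K.obj.presheaf.germ N (z.x K) hN _) = _
  rw [TopCat.Presheaf.germ_res_apply]
  rfl

/-- Every element is a section on an affine neighbourhood at a level above a given one. -/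
theorem exists_sec (r : z.Ring) (K₀ : Adm U) :
    ∃ (K : Adm U) (_ : K₀ ≤ K) (N : K.obj.affineOpens) (hN : z.x K ∈ N.1) (a : Γ(K.obj, N.1)),
      z.sec K N.1 hN a = r := by
  obtain ⟨L, c, rfl⟩ := z.exists_of r
  obtain ⟨K, h0, hL⟩ := exists_ge_ge K₀ L
  obtain ⟨V, hx, s, hs⟩ := TopCat.Presheaf.exists_germ_eq K.obj.presheaf (z.map L K hL c)
  obtain ⟨N, hNV, hN⟩ := exists_affine_le hx
  refine ⟨K, h0, N, hN, K.obj.presheaf.map (homOfLE hNV).op s, ?_⟩
  rw [z.sec_res hNV hN]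
  show z.of K (K.obj.presheaf.germ V (z.x K) hx s) = _
  rw [hs, z.of_map]

/-- A generator of the exceptional divisor at a level. -/
structure Gen where
  K : Adm U
  N : K.obj.affineOpens
  hN : z.x K ∈ N.1
  T : Γ(K.obj, N.1)
  nzd : T ∈ nonZeroDivisors Γ(K.obj, N.1)
  ideal_eq : (K.1.comap K.π).ideal N = Ideal.span {T}

theorem exists_gen : Nonempty z.Gen := by
  let K := Classical.arbitrary (Adm U)
  obtain ⟨N, hN, T, hT, hI⟩ := K.isBlowUp.1 (z.x K)
  exact ⟨⟨K, N, hN, T, hT, hI⟩⟩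

variable {z} (g : z.Gen)

/-- The element `t` of the limit ring. -/
noncomputable def Gen.t : z.Ring := z.sec g.K g.N.1 g.hN g.T

/-- The generator pulled back to an open at a higher level. -/
noncomputable def Gen.pull {P : Adm U} (h : g.K ≤ P) {N : P.obj.Opens}
    (e : N ≤ Adm.tr h ⁻¹ᵁ g.N.1) : Γ(P.obj, N) :=
  (Adm.tr h).appLE g.N.1 N e g.T

theorem Gen.sec_pull {P : Adm U} (h : g.K ≤ P) {N : P.obj.Opens} (e : N ≤ Adm.tr h ⁻¹ᵁ g.N.1)
    (hN : z.x P ∈ N) : z.sec P N hN (g.pull h e) = g.t :=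
  z.sec_appLE h g.N.1 g.hN N e hN g.T

omit [Nonempty (Adm U)] in
theorem Gen.pull_ideal {P : Adm U} (h : g.K ≤ P) (N : P.obj.affineOpens)
    (e : N.1 ≤ Adm.tr h ⁻¹ᵁ g.N.1) :
    (g.K.1.comap P.π).ideal N = Ideal.span {g.pull h e} := by
  rw [← Adm.tr_π h, IdealSheafData.comap_comp, ModPairLib.ideal_comap _ (Adm.tr h) g.N N e,
    g.ideal_eq, Ideal.map_span, Set.image_singleton]
  rfl

theorem Gen.pull_nzd {P : Adm U} (h : g.K ≤ P) (N : P.obj.affineOpens)
    (e : N.1 ≤ Adm.tr h ⁻¹ᵁ g.N.1) : g.pull h e ∈ nonZeroDivisors Γ(P.obj, N.1) :=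
  ModPairLib.generator_mem_nonZeroDivisors (I := g.K.1.comap P.π) h (g.pull_ideal h N e)

theorem Gen.inf_preimage {P : Adm U} (h : g.K ≤ P) (N : P.obj.affineOpens)
    (e : N.1 ≤ Adm.tr h ⁻¹ᵁ g.N.1) : N.1 ⊓ P.π ⁻¹ᵁ U = P.obj.basicOpen (g.pull h e) := by
  rw [← ModPairLib.interior_inter_eq_basicOpen (g.pull_ideal h N e)]
  congr 1
  refine TopologicalSpace.Opens.ext (Set.ext fun w => ?_)
  show P.π w ∈ (U : Set S) ↔ w ∉ ((g.K.1.comap P.π).support : Set P.obj)
  rw [IdealSheafData.support_comap]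
  show _ ↔ P.π w ∉ (g.K.1.support : Set S)
  rw [g.K.2.2, Set.notMem_compl_iff]

theorem Gen.t_mem_nonZeroDivisors : g.t ∈ nonZeroDivisors z.Ring := by
  refine mem_nonZeroDivisors_iff_right.2 fun r hr => ?_
  obtain ⟨K, h, N, hN, a, rfl⟩ := z.exists_sec r g.K
  have hxV : z.x K ∈ Adm.tr h ⁻¹ᵁ g.N.1 := by
    show Adm.tr h (z.x K) ∈ g.N.1
    rw [z.compat h]; exact g.hN
  have h0 : z.of K (K.obj.presheaf.germ N.1 (z.x K) hN a *
      K.obj.presheaf.germ (Adm.tr h ⁻¹ᵁ g.N.1) (z.x K) hxV (g.pull h le_rfl)) = 0 := by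
    rw [map_mul]
    show z.sec K N.1 hN a * z.sec K _ hxV (g.pull h le_rfl) = 0
    rw [g.sec_pull]
    exact hr
  obtain ⟨P, hKP, hP⟩ := z.exists_map_eq_zero h0
  rw [map_mul, z.map_germ, z.map_germ] at hP
  obtain ⟨M, hM, hxM⟩ := exists_affine_le (O := Adm.tr hKP ⁻¹ᵁ N.1 ⊓ Adm.tr (h.trans hKP) ⁻¹ᵁ g.N.1)
    (y := z.x P) ⟨show Adm.tr hKP (z.x P) ∈ N.1 by rw [z.compat]; exact hN,
      show Adm.tr (h.trans hKP) (z.x P) ∈ g.N.1 by rw [z.compat]; exact g.hN⟩
  let _ := P.obj.presheaf.algebra_section_stalk (⟨z.x P, hxM⟩ : M.1)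
  haveI := M.2.isLocalization_stalk ⟨z.x P, hxM⟩
  have hnzd : P.obj.presheaf.germ M.1 (z.x P) hxM (g.pull (h.trans hKP) (hM.trans inf_le_right)) ∈
      nonZeroDivisors (z.stk P) :=
    IsLocalization.map_nonZeroDivisors_le (M.2.primeIdealOf ⟨z.x P, hxM⟩).asIdeal.primeCompl _
      ⟨_, g.pull_nzd _ M (hM.trans inf_le_right), rfl⟩
  have e1 : z.of P (P.obj.presheaf.germ (Adm.tr hKP ⁻¹ᵁ N.1) (z.x P) (hM hxM).1
      ((Adm.tr hKP).app N.1 a)) = z.sec K N.1 hN a := by
    rw [← z.map_germ hKP N.1 hN, z.of_map]; rfl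
  rw [← e1]
  suffices P.obj.presheaf.germ (Adm.tr hKP ⁻¹ᵁ N.1) (z.x P) (hM hxM).1 ((Adm.tr hKP).app N.1 a) = 0 by
    rw [this, map_zero]
  refine mem_nonZeroDivisors_iff_right.1 hnzd _ ?_
  convert hP using 2
  rw [← z.map_germ hKP _ hxV]
  unfold Gen.pull
  rw [Scheme.Hom.appLE, CommRingCat.comp_apply, TopCat.Presheaf.germ_res_apply,
    Scheme.Hom.appLE, CommRingCat.comp_apply, TopCat.Presheaf.germ_res_apply, z.map_germ]
  exact (germ_app_comp (Adm.tr_trans h hKP) g.N.1 g.T _ _ _).symm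

omit [Nonempty (Adm U)] in
/-- An ideal of finite type at some level which is trivial over `U` becomes invertible higher up. -/
theorem _root_.Groth.Agent.ZRLim.Adm.exists_isEffCartier [CompactSpace S] [QuasiSeparatedSpace S]
    (K : Adm U) (J : K.obj.IdealSheafData) (hJ : BlowUp.IsFiniteTypeIdeal J)
    (hJU : ∀ y, K.π y ∈ U → y ∉ (J.support : Set K.obj)) :
    ∃ (P : Adm U) (h : K ≤ P), BlowUp.IsEffCartierIdeal (J.comap (Adm.tr h)) := by
  obtain ⟨m, M, hMft, hM⟩ := BlowSep.Compose.exists_comap_eq_mul_pow K.π K.1 J K.2.1 K.isBlowUp hJ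
  have hMU : (M.support : Set S) ⊆ (U : Set S)ᶜ := fun w hw hwU => by
    haveI := K.isIso_restrict
    let y := (inv (K.π ∣_ U)) ⟨w, hwU⟩
    have hy : K.π y.1 = w := by
      have e : (inv (K.π ∣_ U) ≫ K.π ∣_ U) ⟨w, hwU⟩ = ⟨w, hwU⟩ := by
        rw [IsIso.inv_hom_id]; rfl
      have e2 : ((K.π ∣_ U) y).1 = w := congrArg Subtype.val e
      rw [← e2]
      exact (congrArg (fun f => f y) (morphismRestrict_ι K.π U)).symm
    have h1 : y.1 ∈ ((M.comap K.π).support : Set K.obj) := by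
      rw [IdealSheafData.support_comap]
      show K.π y.1 ∈ (M.support : Set S)
      rw [hy]; exact hw
    rw [hM, IdealSheafData.support_mul] at h1
    rcases h1 with h1 | h1
    · exact hJU y.1 (hy.symm ▸ hwU) h1
    · rcases Nat.eq_zero_or_pos m with rfl | hm
      · rw [pow_zero, IdealSheafData.one_eq_top, IdealSheafData.support_top] at h1
        exact h1
      · rw [IdealSheafData.support_pow _ _ hm.ne', IdealSheafData.support_comap] at h1
        have h3 : K.π y.1 ∈ (K.1.support : Set S) := h1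
        rw [K.2.2] at h3
        exact h3 (hy.symm ▸ hwU)
  let P : Adm U := ⟨K.1 * M, fun V => by
      rw [IdealSheafData.ideal_mul, Pi.mul_apply]; exact (K.2.1 V).mul (hMft V), by
      rw [IdealSheafData.support_mul]
      show (K.1.support : Set S) ∪ (M.support : Set S) = _
      rw [K.2.2]
      exact Set.union_eq_left.2 hMU⟩
  have hKP : K ≤ P := Adm.dom_of_mul P rfl
  refine ⟨P, hKP, ?_⟩
  have h1 : BlowUp.IsEffCartierIdeal (M.comap P.π) := by
    refine BlowUpX.isEffCartier_left_of_mul (J := K.1.comap P.π) ?_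
    rw [← ModPairLib.ideal_comap_mul, mul_comm]
    exact P.isBlowUp.1
  rw [← Adm.tr_π hKP, IdealSheafData.comap_comp, hM, ModPairLib.ideal_comap_mul] at h1
  exact BlowUpX.isEffCartier_left_of_mul h1

omit [Nonempty (Adm U)] in
/-- An ideal with prescribed sections, containing a power of the exceptional divisor. -/
theorem Gen.exists_ideal [CompactSpace S] [QuasiSeparatedSpace S] {K : Adm U} (h : g.K ≤ K)
    (N : K.obj.affineOpens) (e : N.1 ≤ Adm.tr h ⁻¹ᵁ g.N.1) (a' b' : Γ(K.obj, N.1)) (n : ℕ) :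
    ∃ J : K.obj.IdealSheafData, BlowUp.IsFiniteTypeIdeal J ∧
      J.ideal N = Ideal.span {a', b', g.pull h e ^ n} ∧
      ∀ y, K.π y ∈ U → y ∉ (J.support : Set K.obj) := by
  let I : Ideal Γ(K.obj, N.1) := Ideal.span {a', b', g.pull h e ^ n}
  obtain ⟨L₀, hL₀⟩ := exists_ideal_eq N I
  obtain ⟨L, hLle, hLfg, hIL⟩ := MorLib.IdealFG.exists_fg_le L₀ N I
    (Submodule.fg_span (Set.toFinite _)) hL₀.ge
  refine ⟨L ⊔ (g.K.1.comap K.π) ^ n, BlowSep.isFiniteTypeIdeal_sup hLfg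
    (BlowSep.isFiniteTypeIdeal_pow (MorLib.IdealFG.isFG_comap g.K.2.1 K.π) n), ?_, fun y hy hy' => ?_⟩
  · rw [IdealSheafData.ideal_sup, Pi.sup_apply, IdealSheafData.ideal_pow, Pi.pow_apply,
      g.pull_ideal h N e, Ideal.span_singleton_pow]
    refine le_antisymm (sup_le ((hLle N).trans hL₀.le) (Ideal.span_mono ?_)) (hIL.trans le_sup_left)
    simp
  · have h2 := IdealSheafData.support_antitone
      (le_sup_right : (g.K.1.comap K.π) ^ n ≤ L ⊔ (g.K.1.comap K.π) ^ n) hy'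
    rcases Nat.eq_zero_or_pos n with rfl | hn
    · rw [pow_zero, IdealSheafData.one_eq_top, IdealSheafData.support_top] at h2
      exact h2
    · rw [IdealSheafData.support_pow _ _ hn.ne', IdealSheafData.support_comap] at h2
      have h3 : K.π y ∈ (g.K.1.support : Set S) := h2
      rw [g.K.2.2] at h3
      exact h3 hy

theorem Gen.isAdmPrincipal [CompactSpace S] [QuasiSeparatedSpace S] : IsAdmPrincipal g.t := by
  intro r s n
  obtain ⟨K₁, h₁, N₁, hN₁, a, rfl⟩ := z.exists_sec r g.K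
  obtain ⟨K, h, N₂, hN₂, b, rfl⟩ := z.exists_sec s K₁
  obtain ⟨N, hN, hxN⟩ := exists_affine_le
    (O := N₂.1 ⊓ Adm.tr h ⁻¹ᵁ N₁.1 ⊓ Adm.tr (h₁.trans h) ⁻¹ᵁ g.N.1) (y := z.x K)
    ⟨⟨hN₂, z.mem_preimage h hN₁⟩, z.mem_preimage (h₁.trans h) g.hN⟩
  let a' := (Adm.tr h).appLE N₁.1 N.1 (hN.trans (inf_le_left.trans inf_le_right)) a
  let b' := K.obj.presheaf.map (homOfLE (hN.trans (inf_le_left.trans inf_le_left))).op b
  obtain ⟨J, hJ, hJN, hJU⟩ := g.exists_ideal (h₁.trans h) N (hN.trans inf_le_right) a' b' n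
  obtain ⟨P, hKP, hJP⟩ := K.exists_isEffCartier J hJ hJU
  obtain ⟨V, hxV, c, -, hc⟩ := hJP (z.x P)
  obtain ⟨f, hf, hxf⟩ := V.2.exists_basicOpen_le ⟨z.x P, z.mem_preimage hKP hxN⟩ hxV
  let D : P.obj.affineOpens := ⟨P.obj.basicOpen f, V.2.basicOpen f⟩
  have hDV : D.1 ≤ V.1 := P.obj.basicOpen_le f
  refine ⟨z.sec P V.1 hxV c, ?_⟩
  have e1 := ModPairLib.ideal_comap J (Adm.tr hKP) N D hf
  rw [hJN, ← (J.comap (Adm.tr hKP)).map_ideal (U := D) (V := V) hDV, hc, Ideal.map_span,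
    Set.image_singleton] at e1
  have e2 := congrArg (Ideal.map (z.sec P D.1 hxf)) e1
  rw [Ideal.map_span, Set.image_singleton, Ideal.map_map, Ideal.map_span] at e2
  erw [z.sec_res hDV hxf] at e2
  rw [e2, Set.image_insert_eq, Set.image_insert_eq, Set.image_singleton]
  have ea := (z.sec_appLE hKP N.1 hxN D.1 hf hxf a').trans (z.sec_appLE h N₁.1 hN₁ N.1 _ hxN a)
  have eb := (z.sec_appLE hKP N.1 hxN D.1 hf hxf b').trans (z.sec_res _ hxN b)
  have et := (z.sec_appLE hKP N.1 hxN D.1 hf hxf (g.pull (h₁.trans h) (hN.trans inf_le_right))).trans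
    (g.sec_pull _ _ hxN)
  simp only [RingHom.comp_apply, map_pow]
  rw [ea, eb, et]

end Pt

end Groth.Agent.ZRLim
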