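import Groth.Agent.ZRLim.Stalk

/-!
# Affine charts around a point of the limit
-/

universe u

set_option autoImplicit false
set_option linter.style.haveILetI false

open CategoryTheory CategoryTheory.Limits AlgebraicGeometry TopologicalSpace
open Scheme (IdealSheafData)

namespace Groth.Agent.ZRLim

variable {S : Scheme.{u}} {U : S.Opens}

namespace Pt

variable (z : Pt U)

/-- An affine neighbourhood of the point at some level. -/
structure Chart where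
  K : Adm U
  N : K.obj.affineOpens
  hN : z.x K ∈ N.1

variable {z}

/-- Refinement of charts. -/
structure Chart.Le (c d : z.Chart) : Prop where
  le : c.K ≤ d.K
  sub : d.N.1 ≤ Adm.tr le ⁻¹ᵁ c.N.1

/-- The ring of a chart. -/
abbrev Chart.A (c : z.Chart) : Type u := Γ(c.K.obj, c.N.1)

/-- Restriction to a finer chart. -/
noncomputable def Chart.hom {c d : z.Chart} (h : c.Le d) : c.A →+* d.A :=
  ((Adm.tr h.le).appLE c.N.1 d.N.1 h.sub).hom

/-- The value of a section in the limit ring. -/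
noncomputable def Chart.sec (c : z.Chart) : c.A →+* z.Ring := z.sec c.K c.N.1 c.hN

theorem Chart.sec_hom {c d : z.Chart} (h : c.Le d) (a : c.A) : d.sec (Chart.hom h a) = c.sec a :=
  z.sec_appLE h.le c.N.1 c.hN d.N.1 h.sub d.hN a

theorem Chart.le_refl (c : z.Chart) : c.Le c :=
  ⟨_root_.le_refl c.K, fun w hw => by
    show Adm.tr (_root_.le_refl c.K) w ∈ c.N.1
    rw [Adm.tr_self]; exact hw⟩

theorem preimage_comp_le {X Y Z : Scheme.{u}} {g : X ⟶ Y} {f : Y ⟶ Z} {k : X ⟶ Z} (e : g ≫ f = k)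
    {A : Z.Opens} {B : Y.Opens} {C : X.Opens} (e₁ : B ≤ f ⁻¹ᵁ A) (e₂ : C ≤ g ⁻¹ᵁ B) :
    C ≤ k ⁻¹ᵁ A := by
  subst e
  exact e₂.trans (Scheme.Hom.preimage_mono g e₁)

theorem Chart.le_trans {c d e : z.Chart} (h : c.Le d) (h' : d.Le e) : c.Le e :=
  ⟨h.le.trans h'.le, preimage_comp_le (Adm.tr_trans h.le h'.le) h.sub h'.sub⟩

theorem appLE_comp_eq {X Y Z : Scheme.{u}} {g : X ⟶ Y} {f : Y ⟶ Z} {k : X ⟶ Z} (e : g ≫ f = k)
    (A : Z.Opens) (B : Y.Opens) (C : X.Opens) (e₁ : B ≤ f ⁻¹ᵁ A) (e₂ : C ≤ g ⁻¹ᵁ B)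
    (e₃ : C ≤ k ⁻¹ᵁ A) (a : Γ(Z, A)) :
    g.appLE B C e₂ (f.appLE A B e₁ a) = k.appLE A C e₃ a := by
  subst e
  rw [← CommRingCat.comp_apply, Scheme.Hom.appLE_comp_appLE]

theorem Chart.hom_hom {c d e : z.Chart} (h : c.Le d) (h' : d.Le e) (a : c.A) :
    Chart.hom h' (Chart.hom h a) = Chart.hom (Chart.le_trans h h') a :=
  appLE_comp_eq (Adm.tr_trans h.le h'.le) _ _ _ _ _ _ a

theorem Chart.exists_refine (c : z.Chart) {O : c.K.obj.Opens} (hO : z.x c.K ∈ O) :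
    ∃ (N : c.K.obj.affineOpens) (hN : z.x c.K ∈ N.1),
      N.1 ≤ O ∧ c.Le ⟨c.K, N, hN⟩ := by
  obtain ⟨N, hN, hxN⟩ := exists_affine_le (O := O ⊓ c.N.1) (y := z.x c.K) ⟨hO, c.hN⟩
  refine ⟨N, hxN, hN.trans inf_le_left, ⟨_root_.le_refl c.K, fun w hw => ?_⟩⟩
  show Adm.tr (_root_.le_refl c.K) w ∈ c.N.1
  rw [Adm.tr_self]
  exact (hN hw).2

theorem Chart.exists_ub (c d : z.Chart) : ∃ e : z.Chart, c.Le e ∧ d.Le e := by
  obtain ⟨K, hc, hd⟩ := exists_ge_ge c.K d.K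
  obtain ⟨N, hN, hxN⟩ := exists_affine_le (O := Adm.tr hc ⁻¹ᵁ c.N.1 ⊓ Adm.tr hd ⁻¹ᵁ d.N.1)
    (y := z.x K) ⟨z.mem_preimage hc c.hN, z.mem_preimage hd d.hN⟩
  exact ⟨⟨K, N, hxN⟩, ⟨hc, hN.trans inf_le_left⟩, ⟨hd, hN.trans inf_le_right⟩⟩

theorem Chart.exists_ub_finset {ι : Type*} (s : Finset ι) (f : ι → z.Chart) (c : z.Chart) :
    ∃ e : z.Chart, c.Le e ∧ ∀ i ∈ s, (f i).Le e := by
  classical
  induction s using Finset.induction_on with
  | empty => exact ⟨c, c.le_refl, by simp⟩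
  | insert i s _ ih =>
    obtain ⟨e, hce, he⟩ := ih
    obtain ⟨e', h1, h2⟩ := Chart.exists_ub e (f i)
    refine ⟨e', Chart.le_trans hce h1, fun j hj => ?_⟩
    rcases Finset.mem_insert.1 hj with rfl | hj
    · exact h2
    · exact Chart.le_trans (he j hj) h1

variable [Nonempty (Adm U)]

theorem Chart.exists_rep (c : z.Chart) (r : z.Ring) :
    ∃ (d : z.Chart) (_ : c.Le d) (a : d.A), d.sec a = r := by
  obtain ⟨K, _, N, hN, a, ha⟩ := z.exists_sec r c.K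
  obtain ⟨e, h1, h2⟩ := Chart.exists_ub c ⟨K, N, hN⟩
  exact ⟨e, h1, Chart.hom h2 a, (Chart.sec_hom h2 a).trans ha⟩

omit [Nonempty (Adm U)] in
theorem Chart.exists_hom_eq_zero {c : z.Chart} {a : c.A} (h : c.sec a = 0) :
    ∃ (d : z.Chart) (hd : c.Le d), Chart.hom hd a = 0 := by
  obtain ⟨P, hP, h0⟩ := z.exists_map_eq_zero (K := c.K) h
  rw [z.map_germ hP c.N.1 c.hN] at h0
  rw [← map_zero (P.obj.presheaf.germ (Adm.tr hP ⁻¹ᵁ c.N.1) (z.x P) (z.mem_preimage hP c.hN)).hom] at h0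
  obtain ⟨O, hxO, i₁, i₂, h1⟩ := TopCat.Presheaf.germ_eq P.obj.presheaf (z.x P)
    (z.mem_preimage hP c.hN) (z.mem_preimage hP c.hN) _ _ h0
  rw [map_zero] at h1
  obtain ⟨N, hN, hxN⟩ := exists_affine_le hxO
  have hsub : N.1 ≤ Adm.tr hP ⁻¹ᵁ c.N.1 := hN.trans i₁.le
  refine ⟨⟨P, N, hxN⟩, ⟨hP, hsub⟩, ?_⟩
  show (Adm.tr hP).appLE c.N.1 N.1 hsub a = 0
  have h2 := congrArg (P.obj.presheaf.map (homOfLE hN).op) h1
  rw [map_zero, ← CommRingCat.comp_apply, ← Functor.map_comp] at h2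
  rw [Scheme.Hom.appLE, CommRingCat.comp_apply]
  exact h2

theorem Chart.sec_eq_iff {c : z.Chart} {a b : c.A} (h : c.sec a = c.sec b) :
    ∃ (d : z.Chart) (hd : c.Le d), Chart.hom hd a = Chart.hom hd b := by
  obtain ⟨d, hd, h0⟩ := Chart.exists_hom_eq_zero (a := a - b) (by rw [map_sub, h, sub_self])
  exact ⟨d, hd, sub_eq_zero.1 (by rw [← map_sub, h0])⟩

/-- An element of the ideal generated in the limit ring is represented at some finer chart. -/
theorem Chart.exists_rep_ideal (c : z.Chart) (I : Ideal c.A) {r : z.Ring} (hr : r ∈ I.map c.sec) :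
    ∃ (d : z.Chart) (hd : c.Le d) (a : d.A), a ∈ I.map (Chart.hom hd) ∧ d.sec a = r := by
  induction hr using Submodule.span_induction with
  | mem x hx =>
    obtain ⟨a, ha, rfl⟩ := hx
    exact ⟨c, c.le_refl, Chart.hom c.le_refl a, Ideal.mem_map_of_mem _ ha, Chart.sec_hom c.le_refl a⟩
  | zero => exact ⟨c, c.le_refl, 0, Ideal.zero_mem _, map_zero _⟩
  | add x y _ _ ihx ihy =>
    obtain ⟨d, hd, a, ha, rfl⟩ := ihx
    obtain ⟨e, he, b, hb, rfl⟩ := ihy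
    obtain ⟨f, hdf, hef⟩ := Chart.exists_ub d e
    have key : ∀ (d : z.Chart) (hd : c.Le d) (hdf : d.Le f) (a : d.A), a ∈ I.map (Chart.hom hd) →
        Chart.hom hdf a ∈ I.map (Chart.hom (Chart.le_trans hd hdf)) := by
      intro d hd hdf a ha
      have h2 : (Chart.hom hdf).comp (Chart.hom hd) = Chart.hom (Chart.le_trans hd hdf) :=
        RingHom.ext fun x => Chart.hom_hom hd hdf x
      rw [← h2, ← Ideal.map_map]
      exact Ideal.mem_map_of_mem _ ha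
    exact ⟨f, Chart.le_trans hd hdf, Chart.hom hdf a + Chart.hom hef b,
      Ideal.add_mem _ (key d hd hdf a ha) (key e he hef b hb),
      by rw [map_add, Chart.sec_hom, Chart.sec_hom]⟩
  | smul s x _ ihx =>
    obtain ⟨d, hd, a, ha, rfl⟩ := ihx
    obtain ⟨e, hde, q, rfl⟩ := Chart.exists_rep d s
    have h2 : (Chart.hom hde).comp (Chart.hom hd) = Chart.hom (Chart.le_trans hd hde) :=
      RingHom.ext fun x => Chart.hom_hom hd hde x
    exact ⟨e, Chart.le_trans hd hde, q * Chart.hom hde a,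
      Ideal.mul_mem_left _ _ (h2 ▸ Ideal.map_map (I := I) (Chart.hom hd) (Chart.hom hde) ▸
        Ideal.mem_map_of_mem _ ha),
      by rw [map_mul, Chart.sec_hom, smul_eq_mul]⟩

variable (g : z.Gen)

/-- The chart of a generator. -/
def Gen.chart : z.Chart := ⟨g.K, g.N, g.hN⟩

/-- The generator on a finer chart. -/
noncomputable def Gen.T' {c : z.Chart} (h : g.chart.Le c) : c.A := Chart.hom (c := g.chart) h g.T

omit [Nonempty (Adm U)] in
theorem Gen.T'_hom {c d : z.Chart} (h : g.chart.Le c) (h' : c.Le d) :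
    Chart.hom h' (g.T' h) = g.T' (Chart.le_trans h h') := Chart.hom_hom h h' _

omit [Nonempty (Adm U)] in
theorem Gen.sec_T' {c : z.Chart} (h : g.chart.Le c) : c.sec (g.T' h) = g.t :=
  Chart.sec_hom (c := g.chart) h g.T

theorem Gen.T'_nzd {c : z.Chart} (h : g.chart.Le c) : g.T' h ∈ nonZeroDivisors c.A :=
  g.pull_nzd h.le c.N h.sub

theorem Gen.basicOpen_T' {c : z.Chart} (h : g.chart.Le c) :
    c.N.1 ⊓ c.K.π ⁻¹ᵁ U = c.K.obj.basicOpen (g.T' h) :=
  g.inf_preimage h.le c.N h.sub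

end Pt

end Groth.Agent.ZRLim
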